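import Cfsg.Agent.Lib.KlingerMason.Blocks

/-!
The structure of a block.
-/

set_option autoImplicit false
set_option linter.style.haveILetI false

open scoped commutatorElement Pointwise

namespace CfsgLib.KlingerMason

open Subgroup

variable {G : Type*} [Group G] [Finite G] {p : ℕ} [hp : Fact p.Prime] {U : Subgroup G} {a z : G}

theorem elementary_closure {s : Set G} (hc : ∀ x ∈ s, ∀ y ∈ s, Commute x y) (hs : ∀ x ∈ s, x * x = 1) :
    Cfsg.IsElementaryAbelian 2 (Subgroup.closure s) := by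
  haveI := Subgroup.isMulCommutative_closure (k := s) (fun x hx y hy => (hc x hx y hy).eq)
  refine ⟨inferInstance, fun x hx => ?_⟩
  induction hx using Subgroup.closure_induction with
  | mem x hx => rw [sq]; exact hs x hx
  | one => exact one_pow _
  | mul x y hx hy ihx ihy =>
    have hxy : Commute x y := congrArg Subtype.val
      (mul_comm' (⟨x, hx⟩ : Subgroup.closure s) ⟨y, hy⟩)
    rw [hxy.mul_pow, ihx, ihy, one_mul]
  | inv x hx ihx => rw [inv_pow, ihx, inv_one]

theorem Block.z_inv (h : Block p U a z) : z⁻¹ = z := inv_eq_of_mul_eq_one_right h.sq_z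

theorem Block.conj_mem (h : Block p U a z) {x : G} (hx : x ∈ U) : a * x * a⁻¹ ∈ U :=
  (mem_normalizer_iff.1 h.norm x).1 hx

theorem Block.swap (h : Block p U a z) {x y : G} (hx : x ∈ U) (hy : y ∈ U) :
    x * y = y * x ∨ x * y = z * (y * x) := by
  rcases h.comm x hx y hy with e | e
  · exact Or.inl (commutatorElement_eq_one_iff_mul_comm.1 e)
  · right; rw [← e]; simp only [commutatorElement_def]; group

theorem Block.conj_eq (h : Block p U a z) {x g : G} (hx : x ∈ U) (hg : g ∈ U) (hc : ¬ Commute x g) :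
    g * x * g⁻¹ = z * x := by
  have e : ⁅g, x⁆ = z := (h.comm g hg x hx).resolve_left fun e =>
    hc (commutatorElement_eq_one_iff_commute.1 e).symm
  rw [← e]; simp only [commutatorElement_def]; group

theorem Block.commute_mul (h : Block p U a z) {g x y : G} (hg : g ∈ U) (hx : x ∈ U) (hy : y ∈ U)
    (h1 : ¬ Commute g x) (h2 : ¬ Commute g y) : Commute g (x * y) := by
  refine commute_iff_conj.2 ?_
  calc g * (x * y) * g⁻¹ = (g * x * g⁻¹) * (g * y * g⁻¹) := by group
    _ = z * x * (z * y) := by rw [h.conj_eq hx hg (fun e => h1 e.symm), h.conj_eq hy hg (fun e => h2 e.symm)]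
    _ = z * (x * z) * y := by group
    _ = x * y := by rw [← (h.central x hx).eq, ← mul_assoc, h.sq_z, one_mul]

theorem Block.not_commute_mul (h : Block p U a z) {g x y : G} (h1 : Commute g x) (h2 : ¬ Commute g y) :
    ¬ Commute g (x * y) := fun e => h2 (by simpa using h1.inv_right.mul_right e)

theorem Block.not_central (h : Block p U a z) {x : G} (hx : x ∈ U) (hax : ¬ Commute a x) :
    ∃ y ∈ U, ¬ Commute x y := by
  by_contra hn
  push Not at hn
  exact hax ((h.fixed x hx).2 hn)

/-- An element separating two independent elements. -/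
theorem Block.separate (h : Block p U a z) {e y : G} (he : e ∈ U) (hy : y ∈ U) (hya : ¬ Commute a y)
    (heya : ¬ Commute a (e * y)) : ∃ k ∈ U, Commute k e ∧ ¬ Commute k y := by
  by_contra hn
  push Not at hn
  obtain ⟨g, hg, hgy⟩ := h.not_central hy hya
  refine heya ((h.fixed _ (U.mul_mem he hy)).2 fun k hk => ?_)
  by_cases hke : Commute k e
  · exact (hke.mul_right (hn k hk hke)).symm
  by_cases hky : Commute k y
  · exfalso
    have hge : ¬ Commute g e := fun c => hgy (hn g hg c).symm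
    have h1 : Commute (k * g) e := by
      refine commute_iff_conj.2 ?_
      calc k * g * e * (k * g)⁻¹ = k * (g * e * g⁻¹) * k⁻¹ := by group
        _ = (k * z * k⁻¹) * (k * e * k⁻¹) := by rw [h.conj_eq he hg (fun c => hge c.symm)]; group
        _ = e := by
          rw [h.conj_eq he hk (fun c => hke c.symm), commute_iff_conj.1 (h.central k hk).symm, ← mul_assoc,
            h.sq_z, one_mul]
    exact hgy (by simpa using (hky.inv_left.mul_left (hn _ (U.mul_mem hk hg) h1)).symm)
  · exact (h.commute_mul hk he hy hke hky).symm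

/-- No element outside the centre is fixed modulo the centre. -/
theorem Block.no_fixed_coset (h : Block p U a z) (hp2 : p ≠ 2) {g : G} {k : ℕ} (hg : g = a ^ k)
    (hk : ¬ p ∣ k) {x : G} (hx : x ∈ U) (hax : ¬ Commute a x) :
    ¬ Commute a (g * x * g⁻¹ * x⁻¹) := by
  intro hc
  have hgU : g ∈ normalizer (U : Set G) := hg ▸ pow_mem h.norm k
  have hcU : g * x * g⁻¹ * x⁻¹ ∈ U := U.mul_mem ((mem_normalizer_iff.1 hgU x).1 hx) (U.inv_mem hx)
  have hgp : g ^ p = 1 := by rw [hg, ← pow_mul, mul_comm, pow_mul, h.pow, one_pow]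
  have hgx : Commute g x := commute_of_fixed_commutator hp2 h.two hgp hcU (hg ▸ hc.pow_left k)
  obtain ⟨j, hj⟩ := exists_pow_eq_self_of_coprime (x := a) (n := k)
    (Nat.Coprime.coprime_dvd_right (orderOf_dvd_of_pow_eq_one h.pow)
      ((hp.out.coprime_iff_not_dvd).2 hk).symm)
  exact hax (hj ▸ hg ▸ hgx.pow_left j)

theorem Block.not_commute_conj (h : Block p U a z) (hp2 : p ≠ 2) {x : G} (hx : x ∈ U)
    (hax : ¬ Commute a x) : ¬ Commute a (x * (a * x * a⁻¹)) := by
  intro hc
  refine h.no_fixed_coset hp2 (pow_one a).symm (fun hd => hp.out.one_lt.ne' (Nat.dvd_one.1 hd)) hx hax ?_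
  have hsq : Commute a (x * x) := by
    rcases h.sq x hx with e | e <;> rw [e]
    exacts [Commute.one_right a, h.fix_z]
  have hy := h.conj_mem hx
  have hcen := (h.fixed _ (U.mul_mem hx hy)).1 hc x hx
  rw [show a * x * a⁻¹ * x⁻¹ = x⁻¹ * (x * (a * x * a⁻¹)) * x⁻¹ by group, mul_assoc,
    hcen.inv_right.eq, ← mul_assoc, ← mul_inv_rev]
  exact hsq.inv_right.mul_right hc

/-- For `p ≠ 3` there are an involution and a second independent element commuting with it. -/
theorem Block.big (h : Block p U a z) (hp2 : p ≠ 2) (hp3 : p ≠ 3) :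
    ∃ e ∈ U, ∃ y ∈ U, ¬ Commute a e ∧ ¬ Commute a y ∧ ¬ Commute a (e * y) ∧ Commute e y ∧ e * e = 1 := by
  obtain ⟨x, hx, hax⟩ := h.nontriv
  set y₀ := a * x * a⁻¹ with hy₀
  set w := a * y₀ * a⁻¹ with hw
  have hy₀U := h.conj_mem hx
  have hwU := h.conj_mem hy₀U
  have hconjne : ∀ {u : G}, ¬ Commute a u → ¬ Commute a (a * u * a⁻¹) := fun hu e => hu (by
    have := commute_conj_iff.1 e
    rwa [show a⁻¹ * a * a = a by group] at this)
  have hay₀ : ¬ Commute a y₀ := hconjne hax
  have haw : ¬ Commute a w := hconjne hay₀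
  have hxy₀ := h.not_commute_conj hp2 hx hax
  have hsqfix : ∀ u ∈ U, Commute a (u * u) := by
    intro u hu
    rcases h.sq u hu with e | e <;> rw [e]
    exacts [Commute.one_right a, h.fix_z]
  obtain ⟨y, hy, hay, haxy, hcxy⟩ : ∃ y ∈ U, ¬ Commute a y ∧ ¬ Commute a (x * y) ∧ Commute x y := by
    by_cases c1 : Commute x y₀
    · exact ⟨y₀, hy₀U, hay₀, hxy₀, c1⟩
    by_cases c2 : Commute x w
    · refine ⟨w, hwU, haw, fun hc => ?_, c2⟩
      refine h.no_fixed_coset hp2 (g := a ^ 2) rfl (fun hd => ?_) hx hax ?_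
      · exact hp2 ((Nat.prime_dvd_prime_iff_eq hp.out Nat.prime_two).1 hd)
      · have hcen := (h.fixed _ (U.mul_mem hx hwU)).1 hc x hx
        rw [show a ^ 2 * x * (a ^ 2)⁻¹ * x⁻¹ = x⁻¹ * (x * w) * x⁻¹ by rw [hw, hy₀, pow_two]; group,
          mul_assoc, hcen.inv_right.eq, ← mul_assoc, ← mul_inv_rev]
        exact (hsqfix x hx).inv_right.mul_right hc
    refine ⟨y₀ * w, U.mul_mem hy₀U hwU, h.not_commute_conj hp2 hy₀U hay₀, fun hc => ?_,
      h.commute_mul hx hy₀U hwU c1 c2⟩
    refine h.no_fixed_coset hp2 (g := a ^ 3) rfl (fun hd => ?_) hx hax ?_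
    · exact hp3 ((Nat.prime_dvd_prime_iff_eq hp.out Nat.prime_three).1 hd)
    · set f := x * (y₀ * w) with hf
      have hfU : f ∈ U := U.mul_mem hx (U.mul_mem hy₀U hwU)
      have hcen := (h.fixed f hfU).1 hc x hx
      have h1 : a * f * a⁻¹ = f := commute_iff_conj.1 hc
      have e : a ^ 3 * x * (a ^ 3)⁻¹ = f⁻¹ * x * (a * f * a⁻¹) := by
        rw [show a ^ 3 * x * (a ^ 3)⁻¹ = a * (a * (a * x * a⁻¹) * a⁻¹) * a⁻¹ by simp [pow_succ, mul_assoc]]
        rw [hf, hw, hy₀]; simp [mul_assoc]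
      rw [e, h1, mul_assoc f⁻¹, ← hcen.eq, inv_mul_cancel_left, mul_inv_cancel]
      exact Commute.one_right a
  have hsqy : y * x = x * y := hcxy.eq.symm
  rcases h.sq x hx with sx | sx
  · exact ⟨x, hx, y, hy, hax, hay, haxy, hcxy, sx⟩
  rcases h.sq y hy with sy | sy
  · exact ⟨y, hy, x, hx, hay, hax, by rwa [hsqy], hcxy.symm, sy⟩
  refine ⟨x * y, U.mul_mem hx hy, x, hx, haxy, hax, fun hc => hay ?_, ?_, ?_⟩
  · rw [mul_assoc, hsqy, ← mul_assoc, sx] at hc
    simpa using h.fix_z.inv_right.mul_right hc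
  · exact (Commute.refl x).mul_left hcxy.symm
  · rw [hcxy.symm.mul_mul_mul_comm, sx, sy, h.sq_z]

/-- For `p = 3` a block is a quaternion group. -/
theorem Block.three (h : Block 3 U a z) {x : G} (hx : x ∈ U) (hax : ¬ Commute a x) :
    x * x = z ∧ ¬ Commute x (a * x * a⁻¹) := by
  haveI : Fact (Nat.Prime 3) := ⟨Nat.prime_three⟩
  have ha3 : a * a * a = 1 := by rw [← h.pow, pow_succ, pow_two]
  let N : G → G := fun u => u * (a * u * a⁻¹) * (a * (a * u * a⁻¹) * a⁻¹)
  have hNU : ∀ u ∈ U, N u ∈ U := fun u hu =>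
    U.mul_mem (U.mul_mem hu (h.conj_mem hu)) (h.conj_mem (h.conj_mem hu))
  have hback : ∀ u : G, a * (a * (a * u * a⁻¹) * a⁻¹) * a⁻¹ = u := by
    intro u
    calc a * (a * (a * u * a⁻¹) * a⁻¹) * a⁻¹ = (a * a * a) * u * (a * a * a)⁻¹ := by group
      _ = u := by rw [ha3]; group
  have hNfix : ∀ u ∈ U, Commute a (N u) := by
    intro u hu
    refine commute_of_fixed_commutator (p := 3) (by decide) h.two h.pow
      (U.mul_mem (h.conj_mem (hNU u hu)) (U.inv_mem (hNU u hu))) ?_
    have e : a * N u * a⁻¹ * (N u)⁻¹ = ⁅u⁻¹, N u⁆ := by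
      have : a * N u * a⁻¹ = u⁻¹ * N u * u := by
        calc a * N u * a⁻¹ = (a * u * a⁻¹) * (a * (a * u * a⁻¹) * a⁻¹) *
              (a * (a * (a * u * a⁻¹) * a⁻¹) * a⁻¹) := by simp only [N]; group
          _ = u⁻¹ * N u * u := by rw [hback]; simp only [N]; group
      rw [this, commutatorElement_def, inv_inv]
    rw [e]
    rcases h.comm _ (U.inv_mem hu) _ (hNU u hu) with e' | e' <;> rw [e']
    exacts [Commute.one_right a, h.fix_z]
  have hNN : ∀ u ∈ U, ∀ v ∈ U, N (u * v) = N u * N v ∨ N (u * v) = z * (N u * N v) := by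
    intro u hu v hv
    set u₁ := a * u * a⁻¹ with hu₁
    set u₂ := a * u₁ * a⁻¹ with hu₂
    set v₁ := a * v * a⁻¹ with hv₁
    set v₂ := a * v₁ * a⁻¹ with hv₂
    have e0 : N (u * v) = u * ((v * u₁) * v₁ * u₂) * v₂ := by
      simp only [N, hu₂, hu₁, hv₂, hv₁]; group
    have hu₁U := h.conj_mem hu
    have hv₁U := h.conj_mem hv
    have hu₂U := h.conj_mem hu₁U
    obtain ⟨c, hc, e1⟩ : ∃ c, (c = 1 ∨ c = z) ∧ v * u₁ = c * (u₁ * v) := by
      rcases h.swap hv hu₁U with e | e
      exacts [⟨1, Or.inl rfl, by rw [e, one_mul]⟩, ⟨z, Or.inr rfl, e⟩]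
    obtain ⟨d, hd, e2⟩ : ∃ d, (d = 1 ∨ d = z) ∧ (v * v₁) * u₂ = d * (u₂ * (v * v₁)) := by
      rcases h.swap (U.mul_mem hv hv₁U) hu₂U with e | e
      exacts [⟨1, Or.inl rfl, by rw [e, one_mul]⟩, ⟨z, Or.inr rfl, e⟩]
    have hcen : ∀ {c}, (c = 1 ∨ c = z) → ∀ y ∈ U, Commute c y := by
      rintro c (rfl | rfl) y hy
      exacts [Commute.one_left y, h.central y hy]
    have e3 : N (u * v) = c * d * (N u * N v) := by
      calc N (u * v) = u * (c * (u₁ * v) * v₁ * u₂) * v₂ := by rw [e0, e1]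
        _ = (u * c) * u₁ * ((v * v₁) * u₂) * v₂ := by group
        _ = c * ((u * u₁) * d) * u₂ * (v * v₁) * v₂ := by rw [e2, ← (hcen hc u hu).eq]; group
        _ = c * d * (N u * N v) := by
          rw [← (hcen hd _ (U.mul_mem hu hu₁U)).eq]; simp only [N, hu₂, hu₁, hv₂, hv₁]; group
    rcases hc with rfl | rfl <;> rcases hd with rfl | rfl
    · left; simpa using e3
    · right; simpa using e3
    · right; simpa using e3
    · left; rw [e3, h.sq_z, one_mul]
  have hNsq : ∀ u ∈ U, ∀ v ∈ U, N (u * v) * N (u * v) = (N u * N u) * (N v * N v) := by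
    intro u hu v hv
    have cuv : Commute (N u) (N v) := (h.fixed _ (hNU u hu)).1 (hNfix u hu) _ (hNU v hv)
    have e : N u * N v * (N u * N v) = (N u * N u) * (N v * N v) := cuv.symm.mul_mul_mul_comm (N u) (N v)
    rcases hNN u hu v hv with e' | e' <;> rw [e']
    · exact e
    · rw [(h.central _ (U.mul_mem (hNU u hu) (hNU v hv))).symm.mul_mul_mul_comm, h.sq_z, one_mul, e]
  have hN1 : N 1 = 1 := by simp [N]
  let T₃ : Subgroup G :=
    { carrier := {u | u ∈ U ∧ N u * N u = 1}
      one_mem' := ⟨U.one_mem, by rw [hN1, one_mul]⟩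
      mul_mem' := fun {u v} hu hv => ⟨U.mul_mem hu.1 hv.1, by rw [hNsq u hu.1 v hv.1, hu.2, hv.2, one_mul]⟩
      inv_mem' := fun {u} hu => ⟨U.inv_mem hu.1, by
        have := hNsq u hu.1 u⁻¹ (U.inv_mem hu.1)
        rw [mul_inv_cancel, hN1, hu.2, one_mul, one_mul] at this
        exact this.symm⟩ }
  have hT₃ : U ≤ T₃ := by
    conv_lhs => rw [← h.gen]
    rw [commutator_le]
    intro k hk g hg
    have hgU : g ∈ normalizer (U : Set G) := zpowers_le.2 h.norm hg
    have hgk := (mem_normalizer_iff.1 hgU _).1 (U.inv_mem hk)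
    rw [show ⁅k, g⁆ = k * (g * k⁻¹ * g⁻¹) by simp only [commutatorElement_def]; group]
    refine ⟨U.mul_mem hk hgk, ?_⟩
    have hga : Commute g a := by
      obtain ⟨i, rfl⟩ := hg
      exact (Commute.refl a).zpow_left i
    have hgN : Commute g (N k⁻¹) := by
      obtain ⟨i, rfl⟩ := hg
      exact (hNfix _ (U.inv_mem hk)).zpow_left i
    have eN : N (g * k⁻¹ * g⁻¹) = g * N k⁻¹ * g⁻¹ := by
      have ea : ∀ y : G, a * (g * y * g⁻¹) * a⁻¹ = g * (a * y * a⁻¹) * g⁻¹ := fun y => by
        calc a * (g * y * g⁻¹) * a⁻¹ = (a * g) * y * (a * g)⁻¹ := by group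
          _ = (g * a) * y * (g * a)⁻¹ := by rw [hga.eq]
          _ = g * (a * y * a⁻¹) * g⁻¹ := by group
      simp only [N]; rw [ea, ea]; group
    rw [hNsq k hk _ hgk, eN, commute_iff_conj.1 hgN, ← hNsq k hk _ (U.inv_mem hk), mul_inv_cancel, hN1, one_mul]
  set y := a * x * a⁻¹ with hy
  set w := a * y * a⁻¹ with hw
  have hyU := h.conj_mem hx
  have hwU := h.conj_mem hyU
  have hcen := (h.fixed _ (hNU x hx)).1 (hNfix x hx)
  have hnc : ¬ Commute x y := by
    intro c
    have hc1 : Commute y w := by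
      refine commute_iff_conj.2 ?_
      calc y * w * y⁻¹ = a * (x * y * x⁻¹) * a⁻¹ := by rw [hw, hy]; group
        _ = w := by rw [commute_iff_conj.1 c]
    have hc2 : Commute w x := by
      refine commute_iff_conj.2 ?_
      have hx' : a * w * a⁻¹ = x := by rw [hw, hy, hback]
      calc w * x * w⁻¹ = (a * y * a⁻¹) * (a * w * a⁻¹) * (a * y * a⁻¹)⁻¹ := by rw [hx']
        _ = a * (y * w * y⁻¹) * a⁻¹ := by group
        _ = x := by rw [commute_iff_conj.1 hc1, hx']
    haveI := Subgroup.isMulCommutative_closure (k := ({x, y, w} : Set G)) (by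
      intro u hu v hv
      simp only [Set.mem_insert_iff, Set.mem_singleton_iff] at hu hv
      rcases hu with rfl | rfl | rfl <;> rcases hv with rfl | rfl | rfl <;>
        first | rfl | exact c.eq | exact c.eq.symm | exact hc1.eq | exact hc1.eq.symm | exact hc2.eq | exact hc2.eq.symm)
    refine hax (h.abel (Subgroup.closure {x, y, w}) ((Subgroup.closure_le U).2 ?_) ?_
      (fun u hu v hv => congrArg Subtype.val (mul_comm' (⟨u, hu⟩ : Subgroup.closure ({x, y, w} : Set G)) ⟨v, hv⟩))
      x (Subgroup.subset_closure (Set.mem_insert _ _)))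
    · intro u hu
      simp only [Set.mem_insert_iff, Set.mem_singleton_iff] at hu
      rcases hu with rfl | rfl | rfl
      exacts [hx, hyU, hwU]
    · refine mem_normalizer_fintype fun u hu => ?_
      have : Subgroup.closure ({x, y, w} : Set G) ≤ (Subgroup.closure ({x, y, w} : Set G)).comap (MulAut.conj a).toMonoidHom := by
        rw [Subgroup.closure_le]
        intro v hv
        simp only [Set.mem_insert_iff, Set.mem_singleton_iff] at hv
        show a * v * a⁻¹ ∈ Subgroup.closure _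
        rcases hv with rfl | rfl | rfl
        · exact Subgroup.subset_closure (by simp [hy])
        · exact Subgroup.subset_closure (by simp [hw])
        · rw [show a * w * a⁻¹ = x by rw [hw, hy, hback]]
          exact Subgroup.subset_closure (Set.mem_insert _ _)
      exact this hu
  refine ⟨?_, hnc⟩
  rcases h.sq x hx with sx | sx
  · exfalso
    have hNx := (hT₃ hx).2
    have ew : w = (x * y)⁻¹ * N x := by simp only [N, hw, hy]; group
    have sy : y * y = 1 := by
      calc y * y = a * (x * x) * a⁻¹ := by rw [hy]; group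
        _ = 1 := by rw [sx]; group
    have sw : w * w = 1 := by
      calc w * w = a * (y * y) * a⁻¹ := by rw [hw]; group
        _ = 1 := by rw [sy]; group
    have hxy2 : (x * y) * (x * y) = z := by
      have hyx : y * x = z * (x * y) :=
        (h.swap hyU hx).resolve_left fun e => hnc e.symm
      calc x * y * (x * y) = x * (y * x) * y := by group
        _ = x * (z * (x * y)) * y := by rw [hyx]
        _ = (x * z) * x * (y * y) := by group
        _ = z * (x * x) * (y * y) := by rw [← (h.central x hx).eq]; group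
        _ = z := by rw [sx, sy, mul_one, mul_one]
    have hc : Commute (N x) (x * y)⁻¹ := (hcen _ (U.mul_mem hx hyU)).inv_right
    rw [ew, hc.mul_mul_mul_comm, ← mul_inv_rev, hxy2, hNx, mul_one, inv_eq_one] at sw
    exact h.ne sw
  · exact sx

end CfsgLib.KlingerMason
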