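import Cfsg.Agent.Lib.KlingerMason.FourGroup

/-!
Minimal invariant blocks of a class two 2-group on which a maximal `p`-subgroup acts.
-/

set_option autoImplicit false
set_option linter.style.haveILetI false

open scoped commutatorElement Pointwise

namespace CfsgLib.KlingerMason

open Subgroup

variable {G : Type*} [Group G] [Finite G] {p m : ℕ} [hp : Fact p.Prime]

theorem coprime_two_group (hp2 : p ≠ 2) {V A : Subgroup G} (hV : IsPGroup 2 V) (hA : IsPGroup p A) :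
    (Nat.card A).Coprime (Nat.card V) := by
  haveI : Fact (Nat.Prime 2) := ⟨Nat.prime_two⟩
  obtain ⟨k, hk⟩ := hA.exists_card_eq
  obtain ⟨n, hn⟩ := hV.exists_card_eq
  rw [hk, hn]
  exact ((Nat.coprime_primes hp.out Nat.prime_two).2 hp2).pow k n

theorem commute_of_fixed_commutator (hp2 : p ≠ 2) {V : Subgroup G} (hV : IsPGroup 2 V) {g x : G}
    (hg : g ^ p = 1) (hc : g * x * g⁻¹ * x⁻¹ ∈ V) (hfix : Commute g (g * x * g⁻¹ * x⁻¹)) : Commute g x := by
  haveI : Fact (Nat.Prime 2) := ⟨Nat.prime_two⟩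
  exact OddOrder.commute_of_conj_mem hfix (OddOrder.coprime_orderOf_of_isPGroup hV
    (Nat.Coprime.coprime_dvd_left (orderOf_dvd_of_pow_eq_one hg) ((Nat.coprime_primes hp.out Nat.prime_two).2 hp2)) hc)

theorem Setup.le_centralizer_abelian (S : Setup p m G) {A V : Subgroup G}
    (hA : Cfsg.IsElementaryAbelian p A) (hAm : p ^ m ≤ Nat.card A) (hV : IsPGroup 2 V)
    (hVc : ∀ x ∈ V, ∀ y ∈ V, Commute x y) (hAV : A ≤ normalizer (V : Set G)) :
    A ≤ centralizer (V : Set G) := by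
  haveI : Fact (Nat.Prime 2) := ⟨Nat.prime_two⟩
  haveI : IsMulCommutative V := ⟨⟨fun x y => Subtype.ext (hVc x x.2 y y.2).eq⟩⟩
  let W : Subgroup G :=
    { carrier := {x | x ∈ V ∧ x ^ 2 = 1}
      one_mem' := ⟨V.one_mem, one_pow _⟩
      mul_mem' := fun {x y} hx hy => ⟨V.mul_mem hx.1 hy.1, by
        rw [(hVc x hx.1 y hy.1).mul_pow, hx.2, hy.2, one_mul]⟩
      inv_mem' := fun {x} hx => ⟨V.inv_mem hx.1, by rw [inv_pow, hx.2, inv_one]⟩ }
  have hW := S.le_centralizer_elementary hA hAm (E₀ := W)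
    ⟨⟨⟨fun x y => Subtype.ext (hVc x x.2.1 y y.2.1).eq⟩⟩, fun x hx => hx.2⟩
    (fun a ha => mem_normalizer_fintype fun x hx => ⟨(mem_normalizer_iff.1 (hAV ha) x).1 hx.1, by
      rw [conj_pow, hx.2, mul_one, mul_inv_cancel]⟩)
  refine Solvable.le_centralizer_of_fix_prime_order hAV
    (coprime_two_group S.ne_two hV (Signalizer.elementary_isPGroup hA)) fun v hv hpr a ha => ?_
  obtain ⟨k, hk⟩ := IsPGroup.iff_orderOf.mp hV ⟨v, hv⟩
  rw [orderOf_mk] at hk
  have h2 : orderOf v = 2 :=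
    (Nat.prime_dvd_prime_iff_eq hpr Nat.prime_two).1 (hpr.dvd_of_dvd_pow hk.dvd)
  exact (mem_centralizer_iff.1 (hW ha) v ⟨hv, h2 ▸ pow_orderOf_eq_one v⟩).symm

/-- A point fixed by `A` in a centraliser of an involution fixed by `A` lies in `A`. -/
theorem Setup.mem_of_fixed (S : Setup p m G) {A : Subgroup G} (hA : Cfsg.IsElementaryAbelian p A)
    (hAm : p ^ m ≤ Nat.card A) {x : G} (hx1 : x ≠ 1) (hx2 : x ^ 2 = 1) (hAx : ∀ a ∈ A, Commute x a)
    {v : G} (hv : v ^ p = 1) (hxv : Commute x v) (hAv : ∀ a ∈ A, Commute a v) : v ∈ A := by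
  haveI : Fact (Nat.Prime 2) := ⟨Nat.prime_two⟩
  by_contra hvA
  obtain ⟨hL, hc, -⟩ := adjoin hA hv hvA hAv
  refine S.contra (X := zpowers x) ⟨⟨⟨fun a b => Subtype.ext ?_⟩⟩, ?_⟩ (mem_zpowers x) hx1 hL
    (hc ▸ (pow_succ' p m ▸ Nat.mul_le_mul_left p hAm)) (centralizer_adjoin hAx hxv)
  · obtain ⟨i, hi⟩ := a.2
    obtain ⟨j, hj⟩ := b.2
    show (a : G) * b = b * a
    rw [← hi, ← hj]
    exact ((Commute.refl x).zpow_zpow i j).eq
  · rintro _ ⟨i, rfl⟩
    rw [← zpow_natCast, ← zpow_mul, mul_comm, zpow_mul, zpow_natCast, hx2, one_zpow]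

/-- The involutions fixed by `A` in the centraliser of a large subgroup of `A`. -/
theorem Setup.eq_of_fixed_involutions (S : Setup p m G) {A C : Subgroup G}
    (hA : Cfsg.IsElementaryAbelian p A) (hAm : p ^ m ≤ Nat.card A) (hCA : C ≤ A) (hC1 : C ≠ ⊥)
    {z₁ z₂ : G} (h1 : z₁ ≠ 1) (h1' : z₁ ^ 2 = 1) (h2 : z₂ ≠ 1) (h2' : z₂ ^ 2 = 1) (h12 : Commute z₁ z₂)
    (hz₁ : ∀ a ∈ A, Commute z₁ a) (hz₂ : ∀ a ∈ A, Commute z₂ a) : z₁ = z₂ := by
  haveI : Fact (Nat.Prime 2) := ⟨Nat.prime_two⟩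
  by_contra hne
  have hp2 := S.ne_two
  have hC := Signalizer.elementary_of_le hA hCA
  obtain ⟨D, hD, hDC, hCD, hDf⟩ := exists_core hp2 S.charP hC hC1
  have hAC : A ≤ centralizer (C : Set G) := fun a ha => mem_centralizer_iff.2 fun c hc =>
    Signalizer.elementary_commute hA (hCA hc) ha
  have hzc : ∀ {z : G}, (∀ a ∈ A, Commute z a) → z ∈ centralizer (C : Set G) := fun hz =>
    mem_centralizer_iff.2 fun c hc => (hz c (hCA hc)).eq.symm
  set Z₁ := zpowers z₁ with hZ₁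
  have hZ : Cfsg.IsElementaryAbelian 2 Z₁ := ⟨⟨⟨fun a b => Subtype.ext (by
      obtain ⟨i, hi⟩ := a.2; obtain ⟨j, hj⟩ := b.2
      show (a : G) * b = b * a
      rw [← hi, ← hj]; exact ((Commute.refl z₁).zpow_zpow i j).eq)⟩⟩,
    by rintro _ ⟨i, rfl⟩; rw [← zpow_natCast, ← zpow_mul, mul_comm, zpow_mul, zpow_natCast, h1', one_zpow]⟩
  have hz₂Z : z₂ ∉ Z₁ := by
    intro h
    classical
    have hcard : Nat.card Z₁ = 2 := by rw [hZ₁, Nat.card_zpowers, orderOf_eq_prime h1' h1]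
    haveI := Fintype.ofFinite Z₁
    have h3 : ({1, ⟨z₁, mem_zpowers z₁⟩, ⟨z₂, h⟩} : Finset Z₁).card = 3 := by
      rw [Finset.card_insert_of_notMem, Finset.card_insert_of_notMem, Finset.card_singleton]
      · simp only [Finset.mem_singleton, Subtype.ext_iff]; exact hne
      · simp only [Finset.mem_insert, Finset.mem_singleton, Subtype.ext_iff, OneMemClass.coe_one, not_or]
        exact ⟨Ne.symm h1, Ne.symm h2⟩
    have := Finset.card_le_univ ({1, ⟨z₁, mem_zpowers z₁⟩, ⟨z₂, h⟩} : Finset Z₁)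
    rw [h3, ← Nat.card_eq_fintype_card, hcard] at this
    omega
  obtain ⟨hX, -, -⟩ := adjoin hZ h2' hz₂Z (fun h hh => by
    obtain ⟨i, rfl⟩ := hh; exact h12.zpow_left i)
  set X := Z₁ ⊔ zpowers z₂ with hXdef
  have hzX : z₁ ∈ X := mem_sup_left (mem_zpowers z₁)
  have hXC : X ≤ centralizer (C : Set G) := sup_le (zpowers_le.2 (hzc hz₁)) (zpowers_le.2 (hzc hz₂))
  have hsq : z₁ * z₁ = 1 := by rw [← sq]; exact h1'
  obtain ⟨v, hv, hv1⟩ := exists_eig hp2 hX (hXC.trans hCD) hD hzX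
    (fun h => h1 (hDf z₁ (hzc hz₁) (coprime_two_of_sq hp2 hsq) h))
  have hinv := hv.inverts hzX hv1
  obtain ⟨x, hxX, hx1, hxA, hxv⟩ : ∃ x ∈ X, x ≠ 1 ∧ (∀ a ∈ A, Commute x a) ∧ Commute x v := by
    by_cases h : Commute z₂ v
    · exact ⟨z₂, mem_sup_right (mem_zpowers z₂), h2, hz₂, h⟩
    · refine ⟨z₁ * z₂, X.mul_mem hzX (mem_sup_right (mem_zpowers z₂)), fun e => hne ?_,
        fun a ha => (hz₁ a ha).mul_left (hz₂ a ha), hinv.commute_mul (hv.inverts (mem_sup_right (mem_zpowers z₂)) h)⟩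
      rw [eq_inv_of_mul_eq_one_left e]
      exact inv_eq_of_mul_eq_one_right (by rw [← sq]; exact h2')
  set D₁ := D ⊓ centralizer ({x} : Set G) with hD₁
  have hnorm : ∀ g ∈ centralizer (C : Set G), Commute g x → g ∈ normalizer (D₁ : Set G) := fun g hg hgx =>
    inf_normalizer_le_normalizer_inf ⟨hCD hg, le_normalizer (mem_centralizer_singleton_iff.2 hgx.eq)⟩
  obtain ⟨u, huD, hu1, huz, huA⟩ := exists_fixed_inverted hp2 (Signalizer.elementary_isPGroup hA) hsq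
    (hD.of_le (inf_le_left : D₁ ≤ D)) (hnorm z₁ (hzc hz₁) (Signalizer.elementary_commute hX hzX hxX))
    (fun a ha => hnorm a (hAC ha) (hxA a ha).symm) (fun a ha => (hz₁ a ha).symm)
    (fun h => hv1 (h v ⟨hv.mem, mem_centralizer_singleton_iff.2 hxv.eq.symm⟩))
  have huA' := S.mem_of_fixed hA hAm hx1 (hX.2 x hxX) hxA (hD.expo u huD.1)
    (mem_centralizer_singleton_iff.1 huD.2).symm huA
  exact Inverts.not_commute hp2 (hD.expo u huD.1) hu1 huz (hz₁ u huA')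

/-- The central elements fixed by the involution are fixed by the blocks. -/
theorem Setup.le_centralizer_fixed_center (S : Setup p m G) {A C D R : Subgroup G} {z : G}
    (hA : Cfsg.IsElementaryAbelian p A) (hAm : p ^ m ≤ Nat.card A) (hD : Good p D)
    (hAD : A ≤ normalizer (D : Set G)) (hR : IsPGroup 2 R) (hRD : R ≤ normalizer (D : Set G))
    (hAR : A ≤ normalizer (R : Set G)) (hz1 : z ≠ 1) (hz2 : z ^ 2 = 1)
    (hzA : ∀ a ∈ A, Commute z a) (hzR : ∀ r ∈ R, Commute z r) :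
    ∀ d ∈ D, (∀ e ∈ D, Commute d e) → Commute z d → ∀ r ∈ R, Commute r d := by
  haveI : Fact (Nat.Prime 2) := ⟨Nat.prime_two⟩
  let Z₀ : Subgroup G :=
    { carrier := {d | d ∈ D ∧ (∀ e ∈ D, Commute d e) ∧ Commute z d}
      one_mem' := ⟨D.one_mem, fun e _ => Commute.one_left e, Commute.one_right z⟩
      mul_mem' := fun {x y} hx hy => ⟨D.mul_mem hx.1 hy.1, fun e he => (hx.2.1 e he).mul_left (hy.2.1 e he),
        hx.2.2.mul_right hy.2.2⟩
      inv_mem' := fun {x} hx => ⟨D.inv_mem hx.1, fun e he => (hx.2.1 e he).inv_left, hx.2.2.inv_right⟩ }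
  have hnorm : ∀ g ∈ normalizer (D : Set G), Commute z g → g ∈ normalizer (Z₀ : Set G) := by
    refine fun g hg hzg => mem_normalizer_fintype fun d hd => ⟨(mem_normalizer_iff.1 hg d).1 hd.1,
      fun e he => ?_, (hzg.mul_right hd.2.2).mul_right hzg.inv_right⟩
    have he' : g⁻¹ * e * g ∈ D := by simpa using (mem_normalizer_iff.1 (inv_mem hg) e).1 he
    refine commute_iff_conj.2 ?_
    calc g * d * g⁻¹ * e * (g * d * g⁻¹)⁻¹ = g * (d * (g⁻¹ * e * g) * d⁻¹) * g⁻¹ := by group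
      _ = e := by rw [commute_iff_conj.1 (hd.2.1 _ he')]; group
  have hAZ : A ≤ normalizer (Z₀ : Set G) := fun a ha => hnorm a (hAD ha) (hzA a ha)
  have hRZ : R ≤ normalizer (Z₀ : Set G) := fun r hr => hnorm r (hRD hr) (hzR r hr)
  haveI : IsMulCommutative Z₀ := ⟨⟨fun x y => Subtype.ext (x.2.2.1 y y.2.1).eq⟩⟩
  suffices h : ⁅Z₀, R⁆ = ⊥ by
    intro d hd hdc hzd r hr
    exact (mem_centralizer_iff.1 (commutator_eq_bot_iff_le_centralizer.1 h ⟨hd, hdc, hzd⟩) r hr)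
  by_contra hne
  set V := ⁅Z₀, R⁆ with hV
  have hVD : V ≤ Z₀ := Solvable.commutator_le_of_normalizes hRZ
  have hAV : A ≤ normalizer (V : Set G) :=
    (le_inf hAZ hAR).trans (Signalizer.normalizer_inf_le_normalizer_commutator _ _)
  have hVp : IsPGroup p V := hD.isPGroup.to_le fun x hx => (hVD hx).1
  set P := V ⊔ A with hP
  have hPp : IsPGroup p P := hVp.to_sup_of_normal_left' (Signalizer.elementary_isPGroup hA) hAV
  haveI hVn : (V.subgroupOf P).Normal :=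
    (normal_subgroupOf_iff_le_normalizer le_sup_left).2 (sup_le le_normalizer hAV)
  obtain ⟨d, ⟨hd, hdc⟩, hd1⟩ := Solvable.exists_ne_one_mem_inf_center_of_normal hPp (N := V.subgroupOf P)
    (fun h => hne (by rwa [subgroupOf_eq_bot, disjoint_iff, inf_eq_left.2 le_sup_left] at h))
  have hdV : (d : G) ∈ V := hd
  have hdA : ∀ a ∈ A, Commute a (d : G) := fun a ha =>
    congrArg Subtype.val (mem_center_iff.1 hdc ⟨a, mem_sup_right ha⟩)
  have hdA' : (d : G) ∈ A := S.mem_of_fixed hA hAm hz1 hz2 hzA (hD.expo _ (hVD hdV).1) (hVD hdV).2.2 hdA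
  have hfix : ∀ r ∈ R, Commute r (d : G) := by
    intro r hr
    have h1 : ⁅r, (d : G)⁆ ∈ R := by
      rw [commutatorElement_def, mul_assoc r, mul_assoc r]
      exact R.mul_mem hr ((mem_normalizer_iff.1 (hAR hdA') _).1 (R.inv_mem hr))
    have h2 : ⁅r, (d : G)⁆ ∈ D := by
      rw [commutatorElement_def]
      exact D.mul_mem ((mem_normalizer_iff.1 (hRD hr) _).1 (hVD hdV).1) (D.inv_mem (hVD hdV).1)
    refine commutatorElement_eq_one_iff_commute.1 ?_
    have hcop := (coprime_two_group S.ne_two hR hD.isPGroup)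
    exact orderOf_eq_one_iff.1 (Nat.eq_one_of_dvd_coprimes hcop
      (by rw [← orderOf_mk _ h2]; exact orderOf_dvd_natCard _)
      (by rw [← orderOf_mk _ h1]; exact orderOf_dvd_natCard _))
  have hmem : (d : G) ∈ (Z₀ ⊓ centralizer (R : Set G)) ⊓ ⁅Z₀, R⁆ :=
    ⟨⟨hVD hdV, mem_centralizer_iff.2 fun r hr => (hfix r hr).eq⟩, hdV⟩
  rw [Solvable.centralizer_inf_commutator_eq_bot hRZ
    (coprime_two_group S.ne_two hR (hD.isPGroup.to_le (fun x hx => hx.1 : Z₀ ≤ D))).symm, mem_bot] at hmem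
  exact hd1 (Subtype.ext hmem)

/-- A block: a minimal invariant subgroup on which `a` acts. -/
structure Block (p : ℕ) (U : Subgroup G) (a z : G) : Prop where
  two : IsPGroup 2 U
  mem : z ∈ U
  ne : z ≠ 1
  sq_z : z * z = 1
  comm : ∀ x ∈ U, ∀ y ∈ U, ⁅x, y⁆ = 1 ∨ ⁅x, y⁆ = z
  sq : ∀ x ∈ U, x * x = 1 ∨ x * x = z
  central : ∀ y ∈ U, Commute z y
  norm : a ∈ normalizer (U : Set G)
  pow : a ^ p = 1
  fix_z : Commute a z
  fixed : ∀ x ∈ U, Commute a x ↔ ∀ y ∈ U, Commute x y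
  gen : ⁅U, zpowers a⁆ = U
  abel : ∀ V : Subgroup G, V ≤ U → a ∈ normalizer (V : Set G) → (∀ x ∈ V, ∀ y ∈ V, Commute x y) →
    ∀ x ∈ V, Commute a x
  nontriv : ∃ x ∈ U, ¬ Commute a x

/-- An element fixed by `g`, whose commutators are fixed, centralises `[U, g]`. -/
theorem commute_commutator {U : Subgroup G} {a f : G}
    (hf : ∀ g ∈ zpowers a, Commute g f) (hfy : ∀ y ∈ U, ∀ g ∈ zpowers a, Commute g ⁅f, y⁆) :
    ∀ y ∈ ⁅U, zpowers a⁆, Commute f y := by
  have h : ⁅U, zpowers a⁆ ≤ centralizer ({f} : Set G) := by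
    rw [commutator_le]
    intro k hk g hg
    refine mem_centralizer_singleton_iff.2 ?_
    have h1 := commute_iff_conj.1 (hfy k⁻¹ (U.inv_mem hk) g hg)
    have h2 := commute_iff_conj.1 (hf g hg)
    have h3 : ⁅f, g * k⁻¹ * g⁻¹⁆ = ⁅f, k⁻¹⁆ := by
      calc ⁅f, g * k⁻¹ * g⁻¹⁆ = ⁅g * f * g⁻¹, g * k⁻¹ * g⁻¹⁆ := by rw [h2]
        _ = g * ⁅f, k⁻¹⁆ * g⁻¹ := by simp only [commutatorElement_def]; group
        _ = ⁅f, k⁻¹⁆ := h1
    symm
    simp only [commutatorElement_def] at h3 ⊢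
    calc f * (k * g * k⁻¹ * g⁻¹) = f * k * f⁻¹ * (f * (g * k⁻¹ * g⁻¹) * f⁻¹ * (g * k⁻¹ * g⁻¹)⁻¹) *
          (g * k⁻¹ * g⁻¹) * f := by group
      _ = k * g * k⁻¹ * g⁻¹ * f := by rw [h3]; group
  exact fun y hy => (mem_centralizer_singleton_iff.1 (h hy)).symm

/-- Existence of a block inside a class two 2-group. -/
theorem Setup.exists_block (S : Setup p m G) {A B W : Subgroup G} (hA : Cfsg.IsElementaryAbelian p A)
    (hAm : p ^ m ≤ Nat.card A) (hBA : B ≤ A) (hBcard : Nat.card A ≤ p * Nat.card B) (hB1 : B ≠ ⊥)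
    (hW : IsPGroup 2 W) (hAW : A ≤ normalizer (W : Set G))
    (hW2 : ∀ x ∈ W, ∀ y ∈ W, ∀ w ∈ W, Commute ⁅x, y⁆ w)
    {a : G} (ha : a ∈ A) (haB : a ∉ B) (hmove : ∃ x ∈ W ⊓ centralizer (B : Set G), ¬ Commute a x) :
    ∃ (U : Subgroup G) (z : G), U ≤ W ∧ U ≤ centralizer (B : Set G) ∧ A ≤ normalizer (U : Set G) ∧
      (∀ g ∈ A, Commute z g) ∧ Block p U a z := by
  classical
  haveI : Fact (Nat.Prime 2) := ⟨Nat.prime_two⟩
  have hp2 := S.ne_two
  obtain ⟨x₀, hx₀, hax₀⟩ := hmove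
  obtain ⟨U, hUmin⟩ := (Set.toFinite {U : Subgroup G | U ≤ W ⊓ centralizer (B : Set G) ∧
    A ≤ normalizer (U : Set G) ∧ ∃ x ∈ U, ¬ Commute a x}).exists_minimal
    ⟨_, le_rfl, Signalizer.le_normalizer_inf_centralizer hA hAW hBA, x₀, hx₀, hax₀⟩
  obtain ⟨hUle, hAU, x₁, hx₁, hax₁⟩ := hUmin.1
  have hUW : U ≤ W := hUle.trans inf_le_left
  have hUB : U ≤ centralizer (B : Set G) := hUle.trans inf_le_right
  have hmin : ∀ V : Subgroup G, V ≤ U → A ≤ normalizer (V : Set G) → (∃ x ∈ V, ¬ Commute a x) → V = U :=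
    fun V hV h1 h2 => le_antisymm hV (hUmin.2 ⟨hV.trans hUle, h1, h2⟩ hV)
  have hU2 : IsPGroup 2 U := hW.to_le hUW
  have hAeq := sup_zpowers_eq hA hBA hBcard ha haB
  have hAnorm : ∀ V : Subgroup G, V ≤ U → a ∈ normalizer (V : Set G) → A ≤ normalizer (V : Set G) := by
    intro V hV haV
    rw [← hAeq]
    exact sup_le (fun b hb => centralizer_le_normalizer _ (mem_centralizer_iff.2 fun v hv =>
      (mem_centralizer_iff.1 (hUB (hV hv)) b hb).symm)) (zpowers_le.2 haV)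
  have hfixA : ∀ x ∈ U, Commute a x → ∀ g ∈ A, Commute x g := by
    intro x hx hax g hg
    rw [← hAeq] at hg
    exact centralizer_adjoin (fun b hb => (mem_centralizer_iff.1 (hUB hx) b hb).symm) hax.symm g hg
  have hpow := hA.2 a ha
  have haU : zpowers a ≤ normalizer (U : Set G) := (zpowers_le.2 ha).trans hAU
  have hcop : (Nat.card (zpowers a)).Coprime (Nat.card U) :=
    coprime_two_group hp2 hU2 ((Signalizer.elementary_isPGroup hA).to_le (zpowers_le.2 ha))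
  have hgen : ⁅U, zpowers a⁆ = U := by
    refine hmin _ (Solvable.commutator_le_of_normalizes haU)
      (Signalizer.le_normalizer_commutator_elem hA hAU ha) (by_contra fun h => hax₁ ?_)
    push Not at h
    have h1 := Solvable.commutator_commutator_eq haU hcop
      (Or.inl (Signalizer.elementary_isSolvable (Signalizer.elementary_of_le hA (zpowers_le.2 ha))))
    rw [commutator_eq_bot_iff_le_centralizer.2 (fun x hx => mem_centralizer_iff.2 (by
      rintro _ ⟨i, rfl⟩; exact ((h x hx).zpow_left i).eq))] at h1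
    have h2 := commutator_eq_bot_iff_le_centralizer.1 h1.symm
    exact mem_centralizer_iff.1 (h2 hx₁) a (mem_zpowers a)
  have hZW : A ≤ centralizer ((W ⊓ centralizer (W : Set G) : Subgroup G) : Set G) :=
    S.le_centralizer_abelian hA hAm (hW.to_le inf_le_left)
      (fun x hx y hy => (mem_centralizer_iff.1 hx.2 y hy.1).symm)
      (le_trans (le_inf hAW (Signalizer.le_normalizer_centralizer hAW)) inf_normalizer_le_normalizer_inf)
  have hcW : ∀ x ∈ W, ∀ y ∈ W, ∀ g ∈ A, Commute g ⁅x, y⁆ := fun x hx y hy g hg =>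
    (mem_centralizer_iff.1 (hZW hg) _ ⟨by
      rw [commutatorElement_def]
      exact W.mul_mem (W.mul_mem (W.mul_mem hx hy) (W.inv_mem hx)) (W.inv_mem hy),
      mem_centralizer_iff.2 fun w hw => (hW2 x hx y hy w hw).eq.symm⟩).symm
  have hfixed : ∀ x ∈ U, Commute a x ↔ ∀ y ∈ U, Commute x y := by
    intro x hx
    constructor
    · intro hax y hy
      rw [← hgen] at hy
      refine commute_commutator (U := U) (fun g hg => ?_) (fun u hu g hg => ?_) y hy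
      · exact (hfixA x hx hax g (zpowers_le.2 ha hg)).symm
      · exact hcW x (hUW hx) u (hUW hu) g (zpowers_le.2 ha hg)
    · intro hcen
      have hZU := S.le_centralizer_abelian hA hAm (V := U ⊓ centralizer (U : Set G)) (hU2.to_le inf_le_left)
        (fun u hu v hv => (mem_centralizer_iff.1 hu.2 v hv.1).symm)
        (le_trans (le_inf hAU (Signalizer.le_normalizer_centralizer hAU)) inf_normalizer_le_normalizer_inf)
      exact (mem_centralizer_iff.1 (hZU ha) x ⟨hx, mem_centralizer_iff.2 fun y hy => (hcen y hy).eq.symm⟩).symm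
  have hfrat : ∀ y ∈ (frattini U).map U.subtype, Commute a y := by
    set F := (frattini U).map U.subtype with hF
    by_contra hn
    push Not at hn
    have hFU := hmin F (map_subtype_le _)
      (hAnorm F (map_subtype_le _)
        (OddOrder.normalizer_le_normalizer_map_of_characteristic U (frattini U) (hAU ha))) hn
    haveI : Nontrivial U := ⟨⟨⟨x₁, hx₁⟩, 1, fun h => hax₁ (by
      rw [show x₁ = 1 from congrArg Subtype.val h]; exact Commute.one_right a)⟩⟩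
    obtain ⟨M, hM⟩ := IsCoatomic.exists_coatom (Subgroup U)
    have : frattini U = ⊤ := by
      apply map_injective U.subtype_injective
      rw [← hF, hFU, ← MonoidHom.range_eq_map, range_subtype]
    exact hM.1 (top_le_iff.1 (this ▸ frattini_le_coatom hM))
  have hcfix : ∀ x ∈ U, ∀ y ∈ U, ⁅x, y⁆ ∈ U ∧ Commute a ⁅x, y⁆ := fun x hx y hy => ⟨by
      rw [commutatorElement_def]
      exact U.mul_mem (U.mul_mem (U.mul_mem hx hy) (U.inv_mem hx)) (U.inv_mem hy),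
    hcW x (hUW hx) y (hUW hy) a ha⟩
  have hsqfix : ∀ x ∈ U, Commute a (x * x) := fun x hx => hfrat _ ⟨⟨x, hx⟩ ^ 2,
    OddOrder.pow_mem_frattini_of_isPGroup hU2 _, by rw [coe_subtype, SubmonoidClass.coe_pow, pow_two]⟩
  have hcsq : ∀ x ∈ U, ∀ y ∈ U, ⁅x, y⁆ * ⁅x, y⁆ = 1 := by
    intro x hx y hy
    have h1 := (hfixed _ (U.mul_mem hx hx)).1 (hsqfix x hx) y hy
    calc ⁅x, y⁆ * ⁅x, y⁆ = x * ⁅x, y⁆ * x⁻¹ * ⁅x, y⁆ := by
          rw [commute_iff_conj.1 (hW2 x (hUW hx) y (hUW hy) x (hUW hx)).symm]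
      _ = ⁅x * x, y⁆ := by simp only [commutatorElement_def]; group
      _ = 1 := commutatorElement_eq_one_iff_commute.2 h1
  obtain ⟨u, hu, w, hw, hne⟩ : ∃ u ∈ U, ∃ w ∈ U, ⁅u, w⁆ ≠ 1 := by
    by_contra h
    push Not at h
    exact hax₁ ((hfixed x₁ hx₁).2 fun y hy => commutatorElement_eq_one_iff_commute.1 (h x₁ hx₁ y hy))
  set z := ⁅u, w⁆ with hz
  obtain ⟨hzU, haz⟩ := hcfix u hu w hw
  have hzA := hfixA z hzU haz
  have huniq : ∀ y ∈ U, y * y = 1 → Commute a y → y = 1 ∨ y = z := by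
    intro y hy hy2 hay
    rcases eq_or_ne y 1 with h | h
    · exact Or.inl h
    · right
      exact S.eq_of_fixed_involutions hA hAm hBA hB1 h (by rw [sq]; exact hy2) hne
        (by rw [sq]; exact hcsq u hu w hw) ((hfixed y hy).1 hay z hzU) (hfixA y hy hay) hzA
  have hcomm : ∀ x ∈ U, ∀ y ∈ U, ⁅x, y⁆ = 1 ∨ ⁅x, y⁆ = z := fun x hx y hy =>
    huniq _ (hcfix x hx y hy).1 (hcsq x hx y hy) (hcfix x hx y hy).2
  have hzz : z * z = 1 := hcsq u hu w hw
  have hcz : ∀ x ∈ U, ∀ y ∈ U, ⁅x, y⁆ ∈ zpowers z := fun x hx y hy => by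
    rcases hcomm x hx y hy with h | h <;> rw [h]
    exacts [one_mem _, mem_zpowers z]
  let T₂ : Subgroup G :=
    { carrier := {x | x ∈ U ∧ x * x ∈ zpowers z}
      one_mem' := ⟨U.one_mem, by rw [one_mul]; exact one_mem _⟩
      mul_mem' := fun {x y} hx hy => ⟨U.mul_mem hx.1 hy.1, by
        have e : x * y * (x * y) = x * x * ⁅x⁻¹, y⁆ * (y * y) := by simp only [commutatorElement_def]; group
        rw [e]
        exact mul_mem (mul_mem hx.2 (hcz _ (U.inv_mem hx.1) _ hy.1)) hy.2⟩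
      inv_mem' := fun {x} hx => ⟨U.inv_mem hx.1, by rw [← mul_inv_rev]; exact inv_mem hx.2⟩ }
  have hT₂ : U ≤ T₂ := by
    conv_lhs => rw [← hgen]
    rw [commutator_le]
    intro k hk g hg
    have hgk : g * k⁻¹ * g⁻¹ ∈ U := (mem_normalizer_iff.1 (haU hg) _).1 (U.inv_mem hk)
    have hgA := zpowers_le.2 ha hg
    have he : ⁅k, g⁆ = k * (g * k⁻¹ * g⁻¹) := by simp only [commutatorElement_def]; group
    rw [he]
    refine ⟨U.mul_mem hk hgk, ?_⟩
    have hk2 : Commute g (k⁻¹ * k⁻¹) :=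
      (hfixA _ (U.mul_mem (U.inv_mem hk) (U.inv_mem hk)) (hsqfix _ (U.inv_mem hk)) g hgA).symm
    have e : k * (g * k⁻¹ * g⁻¹) * (k * (g * k⁻¹ * g⁻¹)) =
        k * k * ⁅k⁻¹, g * k⁻¹ * g⁻¹⁆ * (g * (k⁻¹ * k⁻¹) * g⁻¹) := by simp only [commutatorElement_def]; group
    have hc' : Commute ⁅k⁻¹, g * k⁻¹ * g⁻¹⁆ (k * k) :=
      hW2 _ (hUW (U.inv_mem hk)) _ (hUW hgk) _ (hUW (U.mul_mem hk hk))
    rw [e, commute_iff_conj.1 hk2, ← hc'.eq]
    have : ⁅k⁻¹, g * k⁻¹ * g⁻¹⁆ * (k * k) * (k⁻¹ * k⁻¹) = ⁅k⁻¹, g * k⁻¹ * g⁻¹⁆ := by group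
    rw [this]
    exact hcz _ (U.inv_mem hk) _ hgk
  refine ⟨U, z, hUW, hUB, hAU, hzA, hU2, hzU, hne, hzz, hcomm, fun x hx => ?_,
    fun y hy => (hfixed z hzU).1 haz y hy, hAU ha, hpow, haz, hfixed, hgen, fun V hV haV hVc x hx => ?_,
    ⟨x₁, hx₁, hax₁⟩⟩
  · obtain ⟨i, hi⟩ := (hT₂ hx).2
    rw [← hi]
    rcases Int.even_or_odd' i with ⟨j, rfl | rfl⟩
    · left; show z ^ (2 * j) = 1
      rw [zpow_mul, show z ^ (2 : ℤ) = 1 by rw [zpow_two]; exact hzz, one_zpow]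
    · right; show z ^ (2 * j + 1) = z
      rw [zpow_add, zpow_mul, show z ^ (2 : ℤ) = 1 by rw [zpow_two]; exact hzz, one_zpow, one_mul, zpow_one]
  · exact (mem_centralizer_iff.1 (S.le_centralizer_abelian hA hAm (hU2.to_le hV) hVc (hAnorm V hV haV) ha) x hx).symm

end CfsgLib.KlingerMason
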