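import Cfsg.Agent.Lib.KlingerMason.Eigen
import Cfsg.Agent.Lib.Transfer.Critical
import Cfsg.Agent.Lib.OddOrder.OmegaFix
import Cfsg.Agent.Lib.OddOrder.PLengthCommutator
import Cfsg.Agent.Lib.Solvable.CoprimeAction
import Cfsg.Agent.Lib.Solvable.Core
import Cfsg.Prelude.Def_LocalEven

/-!
A faithful class two exponent `p` subgroup in the centraliser of an elementary abelian `p`-subgroup.
-/

set_option autoImplicit false
set_option linter.style.haveILetI false

open scoped commutatorElement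

namespace CfsgLib.KlingerMason

open Subgroup

variable {G : Type*} [Group G] [Finite G] {p : ℕ} [hp : Fact p.Prime]

theorem exists_critical_in (P : Subgroup G) (hP : IsPGroup p P) :
    ∃ H : Subgroup G, H ≤ P ∧ normalizer (P : Set G) ≤ normalizer (H : Set G) ∧
      (∀ h ∈ H, ∀ x ∈ P, ⁅h, x⁆ ∈ H ∧ ∀ k ∈ H, Commute ⁅h, x⁆ k) ∧
      (∀ x ∈ P, (∀ h ∈ H, Commute x h) → x ∈ H) ∧
      ∀ h ∈ H, ∀ k ∈ H, Commute (h ^ p) k := by
  obtain ⟨H₀, hchar, hfr, hcomm, hcen⟩ := Transfer.exists_critical hP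
  haveI := hchar
  refine ⟨H₀.map P.subtype, map_subtype_le _,
    OddOrder.normalizer_le_normalizer_map_of_characteristic P H₀, ?_, ?_, ?_⟩
  · rintro _ ⟨h, hh, rfl⟩ x hx
    have hm := hcomm (commutator_mem_commutator hh (mem_top (⟨x, hx⟩ : P)))
    refine ⟨⟨⁅h, (⟨x, hx⟩ : P)⁆, hm.1, rfl⟩, ?_⟩
    rintro _ ⟨k, hk, rfl⟩
    exact (congrArg Subtype.val (mem_centralizer_iff.1 hm.2 k hk)).symm
  · intro x hx hc
    refine ⟨⟨x, hx⟩, hcen (mem_centralizer_iff.2 fun h hh => Subtype.ext ?_), rfl⟩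
    exact (hc (h : G) ⟨h, hh, rfl⟩).eq.symm
  · rintro _ ⟨h, hh, rfl⟩ _ ⟨k, hk, rfl⟩
    have hpow : ((⟨h, hh⟩ : H₀) ^ p : H₀) ∈ frattini H₀ :=
      OddOrder.pow_mem_frattini_of_isPGroup (hP.to_subgroup H₀) _
    have := mem_centralizer_iff.1 (hfr ⟨_, hpow, rfl⟩) k hk
    exact (congrArg Subtype.val this).symm

/-- A coprime element fixing a critical subgroup fixes the whole group. -/
theorem commute_of_fix_critical {P H : Subgroup G} {q : ℕ} [Fact q.Prime] (hP : IsPGroup q P) (hHP : H ≤ P)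
    (hcomm : ∀ h ∈ H, ∀ x ∈ P, ⁅h, x⁆ ∈ H) (hcen : ∀ x ∈ P, (∀ h ∈ H, Commute x h) → x ∈ H)
    {t : G} (ht : t ∈ normalizer (P : Set G)) (hcop : (orderOf t).Coprime q)
    (hfix : ∀ h ∈ H, Commute t h) : ∀ x ∈ P, Commute t x := by
  intro x hx
  have hxc : ∀ h ∈ H, x * h * x⁻¹ ∈ H := fun h hh => by
    have := H.mul_mem (H.inv_mem (hcomm h hh x hx)) hh
    simpa [commutatorElement_def, mul_assoc] using this
  have hxc' : ∀ h ∈ H, x⁻¹ * h * x ∈ H := fun h hh => by
    have := H.mul_mem (H.inv_mem (hcomm h hh x⁻¹ (P.inv_mem hx))) hh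
    simpa [commutatorElement_def, mul_assoc] using this
  have hcH : t * x * t⁻¹ * x⁻¹ ∈ H := by
    refine hcen _ (P.mul_mem ((mem_normalizer_iff.1 ht x).1 hx) (P.inv_mem hx)) fun h hh => ?_
    refine commute_iff_conj.2 ?_
    calc t * x * t⁻¹ * x⁻¹ * h * (t * x * t⁻¹ * x⁻¹)⁻¹
        = t * (x * (t⁻¹ * (x⁻¹ * h * x) * t⁻¹⁻¹) * x⁻¹) * t⁻¹ := by group
      _ = t * h * t⁻¹ := by rw [commute_iff_conj.1 (hfix _ (hxc' h hh)).inv_left]; group
      _ = h := commute_iff_conj.1 (hfix h hh)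
  exact OddOrder.commute_of_conj_mem (hfix _ hcH)
    (OddOrder.coprime_orderOf_of_isPGroup hP hcop (hHP hcH))

theorem exists_core (hp2 : p ≠ 2) (hGp : Cfsg.IsOfLocalCharacteristic p G) {C : Subgroup G}
    (hC : Cfsg.IsElementaryAbelian p C) (hC1 : C ≠ ⊥) :
    ∃ D : Subgroup G, Good p D ∧ D ≤ centralizer (C : Set G) ∧
      centralizer (C : Set G) ≤ normalizer (D : Set G) ∧
      ∀ t ∈ centralizer (C : Set G), (orderOf t).Coprime p → (∀ d ∈ D, Commute t d) → t = 1 := by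
  classical
  set N := normalizer (C : Set G) with hN
  set P := (Cfsg.pCore p ↥N).map N.subtype with hPdef
  have hPp : IsPGroup p P := (Solvable.pCore_isPGroup p ↥N).map _
  have hNP : N ≤ normalizer (P : Set G) := by
    haveI := Solvable.pCore_characteristic (p := p) ↥N
    exact le_trans le_normalizer (OddOrder.normalizer_le_normalizer_map_of_characteristic N _)
  have hCN : centralizer (C : Set G) ≤ N := centralizer_le_normalizer _
  set P₀ := P ⊓ centralizer (C : Set G) with hP0def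
  have hP0 : IsPGroup p P₀ := hPp.to_le inf_le_left
  have hCP0 : centralizer (C : Set G) ≤ normalizer (P₀ : Set G) :=
    le_trans (le_inf (hCN.trans hNP) le_normalizer) inf_normalizer_le_normalizer_inf
  obtain ⟨H, hHP, hHn, hHc, hHcen, hHpow⟩ := exists_critical_in P₀ hP0
  have hpw : ∀ x ∈ H, ∀ y ∈ H, x ^ p = 1 → y ^ p = 1 → (x * y) ^ p = 1 := by
    intro x hx y hy hxp hyp
    obtain ⟨hm, hc⟩ := hHc y hy x (hHP hx)
    have hyx : y * x = ⁅y, x⁆ * (x * y) := by simp only [commutatorElement_def]; group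
    have hcp : ⁅y, x⁆ ^ p = 1 := by
      have hk : ∀ k : ℕ, ⁅y ^ k, x⁆ = ⁅y, x⁆ ^ k := by
        intro k
        induction k with
        | zero => simp
        | succ k ih =>
          have e : ⁅y ^ (k + 1), x⁆ = y * ⁅y ^ k, x⁆ * y⁻¹ * ⁅y, x⁆ := by
            rw [pow_succ']; simp only [commutatorElement_def]; group
          rw [e, ih, ((hc y hy).pow_left k).symm.eq, mul_inv_cancel_right, pow_succ]
      rw [← hk p, hyp, commutatorElement_one_left]
    have hodd : p ∣ p.choose 2 :=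
      hp.out.dvd_choose_self two_ne_zero (lt_of_le_of_ne hp.out.two_le (Ne.symm hp2))
    obtain ⟨q, hq⟩ := hodd
    rw [OddOrder.mul_pow_of_central_commutator hyx (hc x hx) (hc y hy), hxp, hyp, hq, pow_mul, hcp,
      one_pow, one_mul, one_mul]
  let D : Subgroup G :=
    { carrier := {x | x ∈ H ∧ x ^ p = 1}
      one_mem' := ⟨H.one_mem, one_pow _⟩
      mul_mem' := fun {x y} hx hy => ⟨H.mul_mem hx.1 hy.1, hpw x hx.1 y hy.1 hx.2 hy.2⟩
      inv_mem' := fun {x} hx => ⟨H.inv_mem hx.1, by rw [inv_pow, hx.2, inv_one]⟩ }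
  refine ⟨D, ⟨fun x hx => hx.2, fun x hx y hy d hd => (hHc x hx.1 y (hHP hy.1)).2 d hd.1⟩,
    fun x hx => (hHP hx.1).2, fun g hg => mem_normalizer_iff.2 fun x => ?_, ?_⟩
  · have hgH := mem_normalizer_iff.1 (hHn (hCP0 hg)) x
    constructor
    · exact fun h => ⟨hgH.1 h.1, by rw [conj_pow, h.2, mul_one, mul_inv_cancel]⟩
    · refine fun h => ⟨hgH.2 h.1, ?_⟩
      have := h.2
      rwa [conj_pow, conj_eq_one_iff] at this
  intro t ht hcop hfix
  have htH : ∀ h ∈ H, Commute t h := OddOrder.commute_of_fix_pow_eq_one hp2 H (hP0.to_le hHP)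
    (hHn (hCP0 ht)) hcop fun x hx hxp => hfix x ⟨hx, hxp⟩
  have htP0 := commute_of_fix_critical hP0 hHP (fun h hh x hx => (hHc h hh x hx).1) hHcen (hCP0 ht) hcop htH
  have hCp : IsPGroup p C := Signalizer.elementary_isPGroup hC
  have htP : zpowers t ≤ centralizer (P : Set G) := by
    refine Solvable.thompson_pxq hCp ?_ hPp ?_ (le_normalizer.trans hNP) ?_ ?_
    · rw [Nat.card_zpowers]; exact hcop
    · intro c hc
      refine mem_centralizer_iff.2 ?_
      rintro _ ⟨i, rfl⟩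
      exact ((show Commute t c from (mem_centralizer_iff.1 ht c hc).symm).zpow_left i).eq
    · exact zpowers_le.2 (hNP (hCN ht))
    · intro x hx
      refine mem_centralizer_iff.2 ?_
      rintro _ ⟨i, rfl⟩
      exact ((htP0 x hx).zpow_left i).eq
  have hchar := hGp.2 C hCp hC1
  have htN : (⟨t, hCN ht⟩ : ↥N) ∈ Cfsg.pCore p ↥N := by
    refine hchar (mem_centralizer_iff.2 fun x hx => Subtype.ext ?_)
    exact mem_centralizer_iff.1 (htP (mem_zpowers t)) (x : G) ⟨x, hx, rfl⟩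
  obtain ⟨k, hk⟩ := IsPGroup.iff_orderOf.mp (Solvable.pCore_isPGroup p ↥N) ⟨_, htN⟩
  rw [orderOf_mk, orderOf_mk] at hk
  refine orderOf_eq_one_iff.1 (Nat.dvd_one.1 ?_)
  rw [← hcop.pow_right k]
  exact Nat.dvd_gcd dvd_rfl hk.dvd

end CfsgLib.KlingerMason
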