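import Cfsg.Prelude.Def_Transfer
import Cfsg.Agent.Lib.Signalizer.Basic
import Cfsg.Agent.Lib.Signalizer.Factorization

/-!
Signed vectors for an elementary abelian 2-group acting on a `p`-group of exponent `p` and class two.
-/

set_option autoImplicit false
set_option linter.style.haveILetI false

open scoped commutatorElement

namespace CfsgLib.KlingerMason

open Subgroup

variable {G : Type*} [Group G] {p : ℕ}

/-- A `p`-subgroup of exponent `p` whose commutators are central in it. -/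
structure Good (p : ℕ) (D : Subgroup G) : Prop where
  expo : ∀ x ∈ D, x ^ p = 1
  comm : ∀ x ∈ D, ∀ y ∈ D, ∀ d ∈ D, Commute ⁅x, y⁆ d

theorem Good.of_le {D D' : Subgroup G} (h : Good p D) (hle : D' ≤ D) : Good p D' :=
  ⟨fun x hx => h.expo x (hle hx), fun x hx y hy d hd => h.comm x (hle hx) y (hle hy) d (hle hd)⟩

theorem Good.isPGroup {D : Subgroup G} (h : Good p D) : IsPGroup p D :=
  fun x => ⟨1, Subtype.ext (by rw [pow_one, SubmonoidClass.coe_pow]; exact h.expo x x.2)⟩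

/-- `v` is inverted by `y`. -/
def Inverts (y v : G) : Prop := y * v * y⁻¹ = v⁻¹

/-- A nontrivial element of `D` centralised or inverted by each element of `X`. -/
structure Eig (X D : Subgroup G) (v : G) : Prop where
  mem : v ∈ D
  ne : v ≠ 1
  sign : ∀ x ∈ X, Commute x v ∨ Inverts x v

theorem commute_iff_conj {x v : G} : Commute x v ↔ x * v * x⁻¹ = v := by
  constructor
  · intro h; rw [h.eq, mul_inv_cancel_right]
  · intro h
    show x * v = v * x
    calc x * v = x * v * x⁻¹ * x := by group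
      _ = v * x := by rw [h]

theorem eq_one_of_inv_eq [hp : Fact p.Prime] (hp2 : p ≠ 2) {v : G} (hv : v ^ p = 1) (h : v⁻¹ = v) : v = 1 := by
  have h2 : v ^ 2 = 1 := by
    rw [sq]; nth_rewrite 1 [← h]; rw [inv_mul_cancel]
  refine orderOf_eq_one_iff.1 (Nat.dvd_one.1 ?_)
  rw [← ((Nat.coprime_primes hp.out Nat.prime_two).2 hp2)]
  exact Nat.dvd_gcd (orderOf_dvd_of_pow_eq_one hv) (orderOf_dvd_of_pow_eq_one h2)

theorem Inverts.not_commute [Fact p.Prime] (hp2 : p ≠ 2) {y v : G} (hv : v ^ p = 1) (h1 : v ≠ 1)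
    (h : Inverts y v) : ¬ Commute y v := fun hc =>
  h1 (eq_one_of_inv_eq hp2 hv (h.symm.trans (commute_iff_conj.1 hc)))

theorem Eig.inverts {X D : Subgroup G} {v x : G} (h : Eig X D v) (hx : x ∈ X) (hn : ¬ Commute x v) :
    Inverts x v :=
  (h.sign x hx).resolve_left hn

theorem Inverts.commute_mul {a b v : G} (ha : Inverts a v) (hb : Inverts b v) : Commute (a * b) v := by
  refine commute_iff_conj.2 ?_
  calc a * b * v * (a * b)⁻¹ = a * (b * v * b⁻¹) * a⁻¹ := by group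
    _ = (a * v * a⁻¹)⁻¹ := by rw [hb]; group
    _ = v := by rw [ha, inv_inv]

theorem Inverts.commute_left {a b v : G} (ha : Commute a v) (hb : Inverts b v) : Inverts (a * b) v := by
  unfold Inverts
  calc a * b * v * (a * b)⁻¹ = a * (b * v * b⁻¹) * a⁻¹ := by group
    _ = v⁻¹ := by rw [hb]; exact commute_iff_conj.1 ha.inv_right

theorem commutator_inverts {x v : G} (hx : x * x = 1) : Inverts x ⁅v, x⁆ := by
  have hx' : x⁻¹ = x := inv_eq_of_mul_eq_one_right hx
  unfold Inverts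
  simp only [commutatorElement_def, mul_inv_rev, inv_inv, hx']
  calc x * (v * x * v⁻¹ * x) * x = x * v * x * v⁻¹ * (x * x) := by group
    _ = x * (v * (x * v⁻¹)) := by rw [hx]; group

section

variable [Finite G] [Fact p.Prime] (hp2 : p ≠ 2) {X D : Subgroup G}

theorem coprime_two_pow (hp2 : p ≠ 2) {D : Subgroup G} (hD : Good p D) : ¬ 2 ∣ Nat.card D := by
  obtain ⟨n, hn⟩ := hD.isPGroup.exists_card_eq
  rw [hn]
  exact fun h => hp2 ((Nat.prime_dvd_prime_iff_eq Nat.prime_two Fact.out).1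
    (Nat.prime_two.dvd_of_dvd_pow h)).symm

include hp2

/-- An element of `X` moving `D` inverts a signed vector. -/
theorem exists_eig (hX : Cfsg.IsElementaryAbelian 2 X) (hXD : X ≤ normalizer (D : Set G))
    (hD : Good p D) {x₀ : G} (hx₀ : x₀ ∈ X) (hmove : ¬ ∀ d ∈ D, Commute x₀ d) :
    ∃ v, Eig X D v ∧ ¬ Commute x₀ v := by
  haveI : Fact (Nat.Prime 2) := ⟨Nat.prime_two⟩
  obtain ⟨B, hBX, hcard, hB⟩ := Signalizer.exists_hyperplane_centralizer_not_le (p := 2) hX
    (K := D) (D := centralizer ({x₀} : Set G)) (coprime_two_pow hp2 hD) hXD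
    (fun h => hmove fun d hd => (mem_centralizer_singleton_iff.1 (h hd)).symm)
  obtain ⟨d, ⟨hdD, hdB⟩, hd⟩ := SetLike.not_le_iff_exists.1 hB
  have hxsq : x₀ * x₀ = 1 := by rw [← sq]; exact hX.2 x₀ hx₀
  set v := ⁅d, x₀⁆ with hv
  have hvD : v ∈ D := by
    rw [hv, commutatorElement_def, mul_assoc d x₀, mul_assoc d]
    exact D.mul_mem hdD ((mem_normalizer_iff.1 (hXD hx₀) _).1 (D.inv_mem hdD))
  have hv1 : v ≠ 1 := fun h =>
    hd (mem_centralizer_singleton_iff.2 (commutatorElement_eq_one_iff_mul_comm.1 h))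
  have hinv : Inverts x₀ v := commutator_inverts hxsq
  have hfixB : ∀ b ∈ B, Commute b v := by
    intro b hb
    have h1 : Commute b d := (mem_centralizer_iff.1 hdB b hb)
    have h2 : Commute b x₀ := Signalizer.elementary_commute hX (hBX hb) hx₀
    rw [hv, commutatorElement_def]
    exact ((h1.mul_right h2).mul_right h1.inv_right).mul_right h2.inv_right
  have hx0B : x₀ ∉ B := fun h => Inverts.not_commute hp2 (hD.expo v hvD) hv1 hinv (hfixB x₀ h)
  refine ⟨v, ⟨hvD, hv1, fun x hx => ?_⟩, Inverts.not_commute hp2 (hD.expo v hvD) hv1 hinv⟩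
  by_cases hxB : x ∈ B
  · exact Or.inl (hfixB x hxB)
  right
  have hidx : B.relIndex X ≤ 2 := by
    have h := Nat.card_pos (α := B)
    have hm : B.relIndex X * Nat.card B = Nat.card X := by
      rw [mul_comm, ← relIndex_bot_left, ← relIndex_bot_left, relIndex_mul_relIndex _ _ _ bot_le hBX]
    rw [← hm] at hcard
    exact Nat.le_of_mul_le_mul_right hcard h
  have hidx2 : B.relIndex X = 2 := by
    have h1 : B.relIndex X ≠ 0 := Nat.card_pos.ne'
    have h2 : B.relIndex X ≠ 1 := fun h => hx0B (relIndex_eq_one.1 h hx₀)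
    omega
  have hxy : x * x₀⁻¹ ∈ B := by
    have h := (mul_mem_iff_of_index_two (H := B.subgroupOf X) hidx2 (a := ⟨x, hx⟩)
      (b := ⟨x₀⁻¹, X.inv_mem hx₀⟩)).2 ⟨fun h => absurd h hxB, fun h => absurd (B.inv_mem_iff.1 h) hx0B⟩
    exact h
  have hfin := Inverts.commute_left (hfixB _ hxy) hinv
  rwa [inv_mul_cancel_right] at hfin

theorem Eig.conj {v g : G} (h : Eig X D v) (hgX : g ∈ normalizer (X : Set G))
    (hgD : g ∈ normalizer (D : Set G)) : Eig X D (g * v * g⁻¹) := by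
  refine ⟨(mem_normalizer_iff.1 hgD v).1 h.mem, fun e => h.ne ?_, fun x hx => ?_⟩
  · rwa [conj_eq_one_iff] at e
  · have hx' : g⁻¹ * x * g ∈ X := by
      have := (mem_normalizer_iff.1 (inv_mem hgX) x).1 hx
      simpa using this
    rcases h.sign _ hx' with hc | hc
    · left
      refine commute_iff_conj.2 ?_
      have e := commute_iff_conj.1 hc
      calc x * (g * v * g⁻¹) * x⁻¹ = g * ((g⁻¹ * x * g) * v * (g⁻¹ * x * g)⁻¹) * g⁻¹ := by group
        _ = g * v * g⁻¹ := by rw [e]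
    · right
      unfold Inverts at hc ⊢
      calc x * (g * v * g⁻¹) * x⁻¹ = g * ((g⁻¹ * x * g) * v * (g⁻¹ * x * g)⁻¹) * g⁻¹ := by group
        _ = (g * v * g⁻¹)⁻¹ := by rw [hc]; group

omit hp2 in
theorem commute_conj_iff {x v g : G} : Commute x (g * v * g⁻¹) ↔ Commute (g⁻¹ * x * g) v := by
  rw [commute_iff_conj, commute_iff_conj]
  constructor <;> intro h
  · calc g⁻¹ * x * g * v * (g⁻¹ * x * g)⁻¹ = g⁻¹ * (x * (g * v * g⁻¹) * x⁻¹) * g := by group
      _ = v := by rw [h]; group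
  · calc x * (g * v * g⁻¹) * x⁻¹ = g * (g⁻¹ * x * g * v * (g⁻¹ * x * g)⁻¹) * g⁻¹ := by group
      _ = g * v * g⁻¹ := by rw [h]

/-- The commutator of two signed vectors is a central signed vector. -/
theorem Eig.commutator {v w : G} (hD : Good p D) (hv : Eig X D v) (hw : Eig X D w) (hne : ⁅v, w⁆ ≠ 1) :
    Eig X D ⁅v, w⁆ ∧ (∀ d ∈ D, Commute ⁅v, w⁆ d) ∧
      ∀ x ∈ X, Commute x ⁅v, w⁆ ↔ (Commute x v ↔ Commute x w) := by
  have hu : ⁅v, w⁆ ∈ D := by
    rw [commutatorElement_def]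
    exact D.mul_mem (D.mul_mem (D.mul_mem hv.mem hw.mem) (D.inv_mem hv.mem)) (D.inv_mem hw.mem)
  have hcen : ∀ d ∈ D, Commute ⁅v, w⁆ d := hD.comm v hv.mem w hw.mem
  have e1 : ⁅v⁻¹, w⁆ = ⁅v, w⁆⁻¹ := by
    calc ⁅v⁻¹, w⁆ = v⁻¹ * ⁅v, w⁆⁻¹ * v := by simp only [commutatorElement_def]; group
      _ = ⁅v, w⁆⁻¹ := by
        rw [mul_assoc, (hcen v hv.mem).inv_left.eq, inv_mul_cancel_left]
  have e2 : ⁅v, w⁻¹⁆ = ⁅v, w⁆⁻¹ := by
    calc ⁅v, w⁻¹⁆ = w⁻¹ * ⁅v, w⁆⁻¹ * w := by simp only [commutatorElement_def]; group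
      _ = ⁅v, w⁆⁻¹ := by
        rw [mul_assoc, (hcen w hw.mem).inv_left.eq, inv_mul_cancel_left]
  have e3 : ⁅v⁻¹, w⁻¹⁆ = ⁅v, w⁆ := by
    calc ⁅v⁻¹, w⁻¹⁆ = v⁻¹ * ⁅v, w⁻¹⁆⁻¹ * v := by simp only [commutatorElement_def]; group
      _ = ⁅v, w⁆ := by rw [e2, inv_inv, mul_assoc, (hcen v hv.mem).eq, inv_mul_cancel_left]
  have hconj : ∀ x : G, x * ⁅v, w⁆ * x⁻¹ = ⁅x * v * x⁻¹, x * w * x⁻¹⁆ := fun x => by
    simp only [commutatorElement_def]; group
  have key : ∀ x ∈ X, (Commute x ⁅v, w⁆ ∨ Inverts x ⁅v, w⁆) ∧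
      (Commute x ⁅v, w⁆ ↔ (Commute x v ↔ Commute x w)) := by
    intro x hx
    have hnc : ∀ {y : G}, Inverts x y → y ∈ D → y ≠ 1 → ¬ Commute x y := fun h hy h1 =>
      Inverts.not_commute hp2 (hD.expo _ hy) h1 h
    rcases hv.sign x hx with hcv | hcv <;> rcases hw.sign x hx with hcw | hcw
    · have : Commute x ⁅v, w⁆ := commute_iff_conj.2 (by
        rw [hconj, commute_iff_conj.1 hcv, commute_iff_conj.1 hcw])
      exact ⟨Or.inl this, iff_of_true this (iff_of_true hcv hcw)⟩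
    · have : Inverts x ⁅v, w⁆ := by
        unfold Inverts at hcw ⊢; rw [hconj, commute_iff_conj.1 hcv, hcw, e2]
      exact ⟨Or.inr this, iff_of_false (hnc this hu hne) fun h => hnc hcw hw.mem hw.ne (h.1 hcv)⟩
    · have : Inverts x ⁅v, w⁆ := by
        unfold Inverts at hcv ⊢; rw [hconj, commute_iff_conj.1 hcw, hcv, e1]
      exact ⟨Or.inr this, iff_of_false (hnc this hu hne) fun h => hnc hcv hv.mem hv.ne (h.2 hcw)⟩
    · have : Commute x ⁅v, w⁆ := commute_iff_conj.2 (by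
        unfold Inverts at hcv hcw; rw [hconj, hcv, hcw, e3])
      exact ⟨Or.inl this, iff_of_true this (iff_of_false (hnc hcv hv.mem hv.ne) (hnc hcw hw.mem hw.ne))⟩
  exact ⟨⟨hu, hne, fun x hx => (key x hx).1⟩, hcen, fun x hx => (key x hx).2⟩

/-- A `p`-group centralising an involution fixes one of the elements it inverts. -/
theorem exists_fixed_inverted {A : Subgroup G} (hA : IsPGroup p A) {y : G} (hy : y * y = 1)
    (hD : Good p D) (hyD : y ∈ normalizer (D : Set G)) (hAD : A ≤ normalizer (D : Set G))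
    (hAy : ∀ a ∈ A, Commute a y) (hmove : ¬ ∀ d ∈ D, Commute y d) :
    ∃ v ∈ D, v ≠ 1 ∧ Inverts y v ∧ ∀ a ∈ A, Commute a v := by
  classical
  let I : Set G := {v | v ∈ D ∧ Inverts y v}
  have hmem : ∀ d ∈ D, ⁅d, y⁆ ∈ I := fun d hd => ⟨by
    rw [commutatorElement_def, mul_assoc d y, mul_assoc d]
    exact D.mul_mem hd ((mem_normalizer_iff.1 hyD _).1 (D.inv_mem hd)), commutator_inverts hy⟩
  set C₁ := (centralizer ({y} : Set G)).subgroupOf D with hC₁
  let F : ↥D ⧸ C₁ → I := Quotient.lift (fun d : D => (⟨⁅(d : G), y⁆, hmem d d.2⟩ : I)) fun d e h => by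
    have h' : d⁻¹ * e ∈ C₁ := QuotientGroup.leftRel_apply.1 h
    rw [hC₁, mem_subgroupOf, mem_centralizer_singleton_iff] at h'
    refine Subtype.ext ?_
    show ⁅(d : G), y⁆ = ⁅(e : G), y⁆
    have hc : Commute ((d : G)⁻¹ * e) y := h'
    calc ⁅(d : G), y⁆ = d * (((d : G)⁻¹ * e) * y * ((d : G)⁻¹ * e)⁻¹) * (d : G)⁻¹ * y⁻¹ := by
          rw [commute_iff_conj.1 hc, commutatorElement_def]
      _ = ⁅(e : G), y⁆ := by simp only [commutatorElement_def]; group
  have hF : Function.Bijective F := by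
    constructor
    · rintro ⟨d⟩ ⟨e⟩ h
      have h' : ⁅(d : G), y⁆ = ⁅(e : G), y⁆ := congrArg Subtype.val h
      refine Quotient.sound (QuotientGroup.leftRel_apply.2 ?_)
      rw [hC₁, mem_subgroupOf, mem_centralizer_singleton_iff]
      simp only [commutatorElement_def] at h'
      have h'' := mul_right_cancel h'
      calc (d : G)⁻¹ * e * y = (d : G)⁻¹ * ((e : G) * y * (e : G)⁻¹) * e := by group
        _ = (d : G)⁻¹ * ((d : G) * y * (d : G)⁻¹) * e := by rw [h'']
        _ = y * ((d : G)⁻¹ * e) := by group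
    · rintro ⟨v, hvD, hv⟩
      obtain ⟨j, hj⟩ : ∃ j, p = 2 * j + 1 := (Fact.out : p.Prime).odd_of_ne_two hp2
      refine ⟨QuotientGroup.mk ⟨v ^ (j + 1), D.pow_mem hvD _⟩, Subtype.ext ?_⟩
      show ⁅v ^ (j + 1), y⁆ = v
      have h1 : y * (v ^ (j + 1))⁻¹ * y⁻¹ = v ^ (j + 1) := by
        rw [← inv_pow, ← conj_pow]
        congr 1
        calc y * v⁻¹ * y⁻¹ = (y * v * y⁻¹)⁻¹ := by group
          _ = v := by rw [hv, inv_inv]
      rw [commutatorElement_def, mul_assoc _ y, mul_assoc, h1, ← pow_add,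
        show j + 1 + (j + 1) = p + 1 by omega, pow_succ, hD.expo v hvD, one_mul]
  obtain ⟨k, hk⟩ := hD.isPGroup.exists_card_eq
  have hcard : Nat.card I = C₁.index := (Nat.card_congr (Equiv.ofBijective F hF)).symm
  obtain ⟨l, -, hl⟩ := (Nat.dvd_prime_pow (Fact.out : p.Prime)).1 (hk ▸ C₁.index_dvd_card)
  have hl0 : l ≠ 0 := by
    rintro rfl
    rw [pow_zero, index_eq_one, hC₁, subgroupOf_eq_top] at hl
    exact hmove fun d hd => (mem_centralizer_singleton_iff.1 (hl hd)).symm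
  have hclos : ∀ (a : A) (v : I), (a : G) * v * (a : G)⁻¹ ∈ I := fun a v => by
    refine ⟨(mem_normalizer_iff.1 (hAD a.2) _).1 v.2.1, ?_⟩
    have hc := commute_iff_conj.1 (hAy a a.2)
    calc y * ((a : G) * v * (a : G)⁻¹) * y⁻¹
        = ((a : G) * y * (a : G)⁻¹) * ((a : G) * v * (a : G)⁻¹) * ((a : G) * y * (a : G)⁻¹)⁻¹ := by rw [hc]
      _ = (a : G) * (y * v * y⁻¹) * (a : G)⁻¹ := by group
      _ = ((a : G) * v * (a : G)⁻¹)⁻¹ := by rw [v.2.2]; group
  letI act : MulAction A I :=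
    { smul := fun a v => ⟨(a : G) * v * (a : G)⁻¹, hclos a v⟩
      one_smul := fun v => Subtype.ext (by show (1 : G) * v * (1 : G)⁻¹ = v; simp)
      mul_smul := fun a b v => Subtype.ext (by
        show ((a * b : A) : G) * v * ((a * b : A) : G)⁻¹ = (a : G) * ((b : G) * v * (b : G)⁻¹) * (a : G)⁻¹
        rw [Subgroup.coe_mul]; group) }
  have h1I : (1 : G) ∈ I := ⟨D.one_mem, by unfold Inverts; group⟩
  obtain ⟨b, hb, hb1⟩ := hA.exists_fixed_point_of_prime_dvd_card_of_fixed_point (α := I)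
    (by rw [hcard, hl]; exact dvd_pow_self p hl0) (a := ⟨1, h1I⟩) (fun a => Subtype.ext (by
      show (a : G) * 1 * (a : G)⁻¹ = 1; group))
  refine ⟨b, b.2.1, fun h => hb1 (Subtype.ext h.symm), b.2.2, fun a ha => commute_iff_conj.2 ?_⟩
  exact congrArg Subtype.val (hb ⟨a, ha⟩)

end

section Extension

variable [Finite G]

/-- Adjoining a commuting element of order `p`. -/
theorem adjoin [hp : Fact p.Prime] {H : Subgroup G} (hH : Cfsg.IsElementaryAbelian p H) {v : G} (hv : v ^ p = 1)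
    (hvH : v ∉ H) (hc : ∀ h ∈ H, Commute h v) :
    Cfsg.IsElementaryAbelian p (H ⊔ zpowers v) ∧ Nat.card ↥(H ⊔ zpowers v) = p * Nat.card H ∧
      ∀ s ∈ H ⊔ zpowers v, ∃ h ∈ H, ∃ k : ℤ, s = h * v ^ k := by
  have hle : zpowers v ≤ normalizer (H : Set G) := zpowers_le.2
    (centralizer_le_normalizer _ (mem_centralizer_iff.2 fun h hh => (hc h hh).eq))
  have hrep : ∀ s ∈ H ⊔ zpowers v, ∃ h ∈ H, ∃ k : ℤ, s = h * v ^ k := by
    intro s hs
    have h : (s : G) ∈ ((H ⊔ zpowers v : Subgroup G) : Set G) := hs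
    rw [sup_comm, coe_mul_of_left_le_normalizer_right (zpowers v) H hle] at h
    obtain ⟨_, ⟨k, rfl⟩, b, hb, rfl⟩ := h
    exact ⟨b, hb, k, ((hc b hb).zpow_right k).eq.symm⟩
  have hcH : ∀ a ∈ H, ∀ b ∈ H, Commute a b := fun a ha b hb => Signalizer.elementary_commute hH ha hb
  refine ⟨⟨⟨⟨fun s t => ?_⟩⟩, fun s hs => ?_⟩, ?_, hrep⟩
  · obtain ⟨h, hh, k, hs⟩ := hrep s s.2
    obtain ⟨g, hg, l, ht⟩ := hrep t t.2
    refine Subtype.ext ?_
    show (s : G) * t = t * s
    rw [hs, ht]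
    exact (((hcH h hh g hg).mul_right ((hc h hh).zpow_right l)).mul_left
      (((hc g hg).zpow_right k).symm.mul_right ((Commute.refl v).zpow_zpow k l))).eq
  · obtain ⟨h, hh, k, rfl⟩ := hrep s hs
    rw [((hc h hh).zpow_right k).mul_pow, hH.2 h hh, one_mul, ← zpow_natCast, ← zpow_mul, mul_comm,
      zpow_mul, zpow_natCast, hv, one_zpow]
  · have hinf : H ⊓ zpowers v = ⊥ := by
      have hv1 : v ≠ 1 := fun h => hvH (h ▸ H.one_mem)
      have hcard : Nat.card (zpowers v) = p := by rw [Nat.card_zpowers, orderOf_eq_prime hv hv1]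
      rcases (Nat.dvd_prime hp.out).1 (hcard ▸ card_dvd_of_le (inf_le_right : H ⊓ zpowers v ≤ zpowers v))
        with h | h
      · exact eq_bot_of_card_eq _ h
      · exfalso
        have := eq_of_le_of_card_ge (inf_le_right : H ⊓ zpowers v ≤ zpowers v) (by rw [h, hcard])
        exact hvH ((inf_eq_right.1 this) (mem_zpowers v))
    have h1 := Signalizer.card_mul_set (zpowers v) H
    rw [inf_comm, hinf, card_bot, mul_one, Nat.card_zpowers,
      orderOf_eq_prime hv (fun h => hvH (h ▸ H.one_mem))] at h1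
    rw [← h1, sup_comm]
    exact Nat.card_congr (Equiv.setCongr (coe_mul_of_left_le_normalizer_right (zpowers v) H hle))

theorem centralizer_adjoin {H : Subgroup G} {v y : G} (hH : ∀ h ∈ H, Commute y h) (hv : Commute y v) :
    ∀ s ∈ H ⊔ zpowers v, Commute y s := by
  have : H ⊔ zpowers v ≤ centralizer ({y} : Set G) :=
    sup_le (fun h hh => mem_centralizer_singleton_iff.2 (hH h hh).eq.symm)
      (zpowers_le.2 (mem_centralizer_singleton_iff.2 hv.eq.symm))
  exact fun s hs => (mem_centralizer_singleton_iff.1 (this hs)).symm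

variable [Fact p.Prime] (hp2 : p ≠ 2) {X D : Subgroup G}

include hp2

theorem exists_fix_invert {v w : G} (hD : Good p D) (hv : Eig X D v) (hw : Eig X D w)
    (hdiff : ∃ x ∈ X, ¬ (Commute x v ↔ Commute x w)) (hnt : ∃ x ∈ X, ¬ Commute x v) :
    ∃ x ∈ X, Commute x w ∧ Inverts x v := by
  obtain ⟨x, hx, hxd⟩ := hdiff
  by_cases hcw : Commute x w
  · exact ⟨x, hx, hcw, hv.inverts hx fun h => hxd (iff_of_true h hcw)⟩
  have hcv : Commute x v := by
    by_contra h; exact hxd (iff_of_false h hcw)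
  obtain ⟨y, hy, hyv⟩ := hnt
  by_cases hyw : Commute y w
  · exact ⟨y, hy, hyw, hv.inverts hy hyv⟩
  exact ⟨x * y, X.mul_mem hx hy, (hw.inverts hx hcw).commute_mul (hw.inverts hy hyw),
    Inverts.commute_left hcv (hv.inverts hy hyv)⟩

theorem eq_one_of_inverts_commute {x s : G} (hs : s ^ p = 1) (hi : Inverts x s) (hc : Commute x s) : s = 1 := by
  by_contra h
  exact Inverts.not_commute hp2 hs h hi hc

/-- Three pairwise commuting signed vectors of different signs are independent modulo fixed points. -/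
theorem card_three {H : Subgroup G} (hH : Cfsg.IsElementaryAbelian p H)
    (hHX : ∀ x ∈ X, ∀ h ∈ H, Commute x h) (hD : Good p D) {v w t : G}
    (hv : Eig X D v) (hw : Eig X D w) (ht : Eig X D t)
    (hHD : ∀ h ∈ H, ∀ d ∈ D, Commute h d) (hvw : Commute v w) (hvt : Commute v t) (hwt : Commute w t)
    (nv : ∃ x ∈ X, ¬ Commute x v) (nw : ∃ x ∈ X, ¬ Commute x w) (nt : ∃ x ∈ X, ¬ Commute x t)
    (dvw : ∃ x ∈ X, ¬ (Commute x v ↔ Commute x w)) (dvt : ∃ x ∈ X, ¬ (Commute x v ↔ Commute x t))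
    (dwt : ∃ x ∈ X, ¬ (Commute x w ↔ Commute x t)) :
    ∃ L : Subgroup G, Cfsg.IsElementaryAbelian p L ∧ Nat.card L = p ^ 3 * Nat.card H ∧
      ∀ y : G, (∀ h ∈ H, Commute y h) → Commute y v → Commute y w → Commute y t → ∀ s ∈ L, Commute y s := by
  have hne : ∀ {u : G}, Eig X D u → (∃ x ∈ X, ¬ Commute x u) → ∀ K : Subgroup G,
      (∀ x ∈ X, ¬ Commute x u → ∀ k ∈ K, Commute x k) → u ∉ K := fun _ ⟨x, hx, hxu⟩ K hK h =>
    hxu (hK x hx hxu _ h)
  have hv' : v ∉ H := hne hv nv H fun x hx _ h hh => hHX x hx h hh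
  obtain ⟨hH1, hc1, hrep1⟩ := adjoin hH (hD.expo v hv.mem) hv' fun h hh => hHD h hh v hv.mem
  obtain ⟨x, hx, hxv, hxw⟩ := exists_fix_invert hp2 hD hw hv (by
    obtain ⟨x, hx, h⟩ := dvw; exact ⟨x, hx, fun e => h e.symm⟩) nw
  have hw' : w ∉ H ⊔ zpowers v := fun h =>
    Inverts.not_commute hp2 (hD.expo w hw.mem) hw.ne hxw
      (centralizer_adjoin (fun h hh => hHX x hx h hh) hxv w h)
  have hcw : ∀ h ∈ H ⊔ zpowers v, Commute h w := fun h hh =>
    (centralizer_adjoin (fun h hh => (hHD h hh w hw.mem).symm) hvw.symm h hh).symm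
  obtain ⟨hH2, hc2, hrep2⟩ := adjoin hH1 (hD.expo w hw.mem) hw' hcw
  obtain ⟨y, hy, hyw, hyv⟩ := exists_fix_invert hp2 hD hv hw dvw nv
  have ht' : t ∉ H ⊔ zpowers v ⊔ zpowers w := by
    intro h
    obtain ⟨s, hs, b, e⟩ := hrep2 t h
    have hxs : Commute x s := centralizer_adjoin (fun h hh => hHX x hx h hh) hxv s hs
    have hxb : Inverts x (w ^ b) := by
      unfold Inverts at hxw ⊢
      rw [← conj_zpow, hxw, inv_zpow]
    have hsp : s ^ p = 1 := hH1.2 s hs
    have hwb : (w ^ b) ^ p = 1 := by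
      rw [← zpow_natCast, ← zpow_mul, mul_comm, zpow_mul, zpow_natCast, hD.expo w hw.mem, one_zpow]
    by_cases hxt : Commute x t
    · have h1 : Commute x (w ^ b) := by
        rw [e] at hxt
        simpa using hxs.inv_right.mul_right hxt
      have h2 := eq_one_of_inverts_commute hp2 hwb hxb h1
      rw [h2, mul_one] at e
      rw [← e] at hs
      obtain ⟨h₀, hh₀, a, e'⟩ := hrep1 t hs
      have hyb : Inverts y (v ^ a) := by
        unfold Inverts at hyv ⊢
        rw [← conj_zpow, hyv, inv_zpow]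
      have hvp : (v ^ a) ^ p = 1 := by
        rw [← zpow_natCast, ← zpow_mul, mul_comm, zpow_mul, zpow_natCast, hD.expo v hv.mem, one_zpow]
      by_cases hyt : Commute y t
      · have h3 : Commute y (v ^ a) := by
          rw [e'] at hyt
          simpa using (hHX y hy h₀ hh₀).inv_right.mul_right hyt
        rw [eq_one_of_inverts_commute hp2 hvp hyb h3, mul_one] at e'
        obtain ⟨z, hz, hzt⟩ := nt
        exact hzt (e' ▸ hHX z hz h₀ hh₀)
      · have hi := ht.inverts hy hyt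
        have h4 : h₀ = 1 := by
          refine eq_one_of_inv_eq hp2 (hH.2 h₀ hh₀) ?_
          have hc : Commute h₀ (v ^ a) := (hHD h₀ hh₀ v hv.mem).zpow_right a
          have h5 : y * t * y⁻¹ = h₀ * (v ^ a)⁻¹ := by
            rw [e', ← conj_mul, commute_iff_conj.1 (hHX y hy h₀ hh₀), hyb]
          rw [hi, e', mul_inv_rev, ← hc.inv_inv.eq] at h5
          exact mul_right_cancel h5
        rw [h4, one_mul] at e'
        obtain ⟨z, hz, hzd⟩ := dvt
        refine hzd ⟨fun hc => e' ▸ hc.zpow_right a, fun hc => ?_⟩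
        by_contra hn
        have hi' := hv.inverts hz hn
        have hib : Inverts z (v ^ a) := by
          unfold Inverts at hi' ⊢; rw [← conj_zpow, hi', inv_zpow]
        exact ht.ne (eq_one_of_inverts_commute hp2 (hD.expo t ht.mem) (e' ▸ hib) hc)
    · have hi := ht.inverts hx hxt
      have h4 : s = 1 := by
        refine eq_one_of_inv_eq hp2 hsp ?_
        have hc : Commute s (w ^ b) := (hcw s hs).zpow_right b
        have h5 : x * t * x⁻¹ = s * (w ^ b)⁻¹ := by
          rw [e, ← conj_mul, commute_iff_conj.1 hxs, hxb]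
        rw [hi, e, mul_inv_rev, ← hc.inv_inv.eq] at h5
        exact mul_right_cancel h5
      rw [h4, one_mul] at e
      obtain ⟨z, hz, hzd⟩ := dwt
      refine hzd ⟨fun hc => e ▸ hc.zpow_right b, fun hc => ?_⟩
      by_contra hn
      have hi' := hw.inverts hz hn
      have hib : Inverts z (w ^ b) := by
        unfold Inverts at hi' ⊢; rw [← conj_zpow, hi', inv_zpow]
      exact ht.ne (eq_one_of_inverts_commute hp2 (hD.expo t ht.mem) (e ▸ hib) hc)
  have hct : ∀ h ∈ H ⊔ zpowers v ⊔ zpowers w, Commute h t := fun h hh =>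
    (centralizer_adjoin (fun s hs => centralizer_adjoin (fun h hh => (hHD h hh t ht.mem).symm) hvt.symm s hs)
      hwt.symm h hh).symm
  obtain ⟨hH3, hc3, -⟩ := adjoin hH2 (hD.expo t ht.mem) ht' hct
  refine ⟨_, hH3, by rw [hc3, hc2, hc1]; ring, fun y h1 h2 h3 h4 => ?_⟩
  exact centralizer_adjoin (centralizer_adjoin (centralizer_adjoin h1 h2) h3) h4

end Extension

end CfsgLib.KlingerMason
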