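import Cfsg.Agent.Lib.KlingerMason.Core
import Cfsg.Agent.Lib.Solvable.CoprimeAbelian
import Cfsg.Agent.Lib.Signalizer.Commutators
import Cfsg.Prelude.Def_CaseTheorems

/-!
A `p`-subgroup of largest rank in the 2-locals centralises the elementary abelian 2-groups it normalises.
-/

set_option autoImplicit false
set_option linter.style.haveILetI false

open scoped commutatorElement Pointwise

namespace CfsgLib.KlingerMason

open Subgroup

variable {G : Type*} [Group G] [Finite G] {p m : ℕ} [hp : Fact p.Prime]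

/-- The standing hypotheses. -/
structure Setup (p m : ℕ) (G : Type*) [Group G] : Prop where
  ne_two : p ≠ 2
  charP : Cfsg.IsOfLocalCharacteristic p G
  charTwo : Cfsg.IsCharacteristicTwoType G
  three : 3 ≤ m
  bound : ∀ X A : Subgroup G, IsPGroup 2 X → X ≠ ⊥ → Cfsg.IsElementaryAbelian p A →
    A ≤ normalizer (X : Set G) → Nat.card A ≤ p ^ m

theorem coprime_two_of_sq (hp2 : p ≠ 2) {x : G} (hx : x * x = 1) : (orderOf x).Coprime p :=
  Nat.Coprime.coprime_dvd_left (orderOf_dvd_of_pow_eq_one (by rw [sq]; exact hx))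
    ((Nat.coprime_primes Nat.prime_two hp.out).2 (Ne.symm hp2))

omit [Finite G] hp in
theorem elementary_two_isPGroup {X : Subgroup G} (hX : Cfsg.IsElementaryAbelian 2 X) : IsPGroup 2 X :=
  fun x => ⟨1, Subtype.ext (by rw [pow_one, SubmonoidClass.coe_pow]; exact hX.2 x x.2)⟩

theorem Setup.contra (S : Setup p m G) {X L : Subgroup G} {x : G} (hX : Cfsg.IsElementaryAbelian 2 X)
    (hx : x ∈ X) (hx1 : x ≠ 1) (hL : Cfsg.IsElementaryAbelian p L) (hcard : p ^ (m + 1) ≤ Nat.card L)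
    (hc : ∀ s ∈ L, Commute x s) : False := by
  have h := S.bound (zpowers x) L ((elementary_two_isPGroup hX).to_le (zpowers_le.2 hx))
    (fun h => hx1 (zpowers_eq_bot.1 h)) hL (fun s hs => centralizer_le_normalizer _ (by
      rintro _ ⟨i, rfl⟩
      exact ((hc s hs).zpow_left i).eq))
  exact absurd (hcard.trans h) (not_le.2 (Nat.pow_lt_pow_right hp.out.one_lt (by omega)))

omit hp in
theorem exists_common (X : Subgroup G) (hX : Cfsg.IsElementaryAbelian 2 X) {D : Subgroup G} {v w t : G}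
    (hv : Eig X D v) (hw : Eig X D w) (ht : Eig X D t) (hcard : 8 < Nat.card X) :
    ∃ x ∈ X, x ≠ 1 ∧ Commute x v ∧ Commute x w ∧ Commute x t := by
  classical
  haveI : Fintype X := Fintype.ofFinite X
  let f : X → Bool × Bool × Bool :=
    fun x => (decide (Commute (x : G) v), decide (Commute (x : G) w), decide (Commute (x : G) t))
  obtain ⟨a, b, hne, hab⟩ := Fintype.exists_ne_map_eq_of_card_lt f (by
    rw [← Nat.card_eq_fintype_card (α := X)]; simpa using hcard)
  simp only [f, Prod.mk.injEq, decide_eq_decide] at hab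
  have key : ∀ {u : G}, Eig X D u → (Commute (a : G) u ↔ Commute (b : G) u) → Commute ((a : G) * b) u := by
    intro u hu hiff
    by_cases h : Commute (a : G) u
    · exact h.mul_left (hiff.1 h)
    · exact (hu.inverts a.2 h).commute_mul (hu.inverts b.2 fun h' => h (hiff.2 h'))
  refine ⟨a * b, X.mul_mem a.2 b.2, fun h => hne (Subtype.ext ?_), key hv hab.1, key hw hab.2.1, key ht hab.2.2⟩
  have ha2 : (a : G) * a = 1 := by rw [← sq]; exact hX.2 a a.2
  exact mul_left_cancel (ha2.trans h.symm)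

omit hp in
theorem exists_common_two (X : Subgroup G) (hX : Cfsg.IsElementaryAbelian 2 X) {D : Subgroup G} {v w : G}
    (hv : Eig X D v) (hw : Eig X D w) (hcard : 4 < Nat.card X) :
    ∃ x ∈ X, x ≠ 1 ∧ Commute x v ∧ Commute x w := by
  classical
  haveI : Fintype X := Fintype.ofFinite X
  let f : X → Bool × Bool := fun x => (decide (Commute (x : G) v), decide (Commute (x : G) w))
  obtain ⟨a, b, hne, hab⟩ := Fintype.exists_ne_map_eq_of_card_lt f (by
    rw [← Nat.card_eq_fintype_card (α := X)]; simpa using hcard)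
  simp only [f, Prod.mk.injEq, decide_eq_decide] at hab
  have key : ∀ {u : G}, Eig X D u → (Commute (a : G) u ↔ Commute (b : G) u) → Commute ((a : G) * b) u := by
    intro u hu hiff
    by_cases h : Commute (a : G) u
    · exact h.mul_left (hiff.1 h)
    · exact (hu.inverts a.2 h).commute_mul (hu.inverts b.2 fun h' => h (hiff.2 h'))
  refine ⟨a * b, X.mul_mem a.2 b.2, fun h => hne (Subtype.ext ?_), key hv hab.1, key hw hab.2⟩
  have ha2 : (a : G) * a = 1 := by rw [← sq]; exact hX.2 a a.2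
  exact mul_left_cancel (ha2.trans h.symm)

/-- `g` moves the sign of every signed vector on `E`. -/
def Moves (E X D : Subgroup G) (g : G) : Prop :=
  ∀ v, Eig X D v → (∃ x ∈ E, ¬ Commute x v) → ∃ x ∈ E, ¬ (Commute x v ↔ Commute x (g * v * g⁻¹))

theorem exists_three (hp2 : p ≠ 2) {E X D : Subgroup G} (hX : Cfsg.IsElementaryAbelian 2 X)
    (hXD : X ≤ normalizer (D : Set G)) (hD : Good p D) (hEX : E ≤ X) {g : G}
    (hgX : g ∈ normalizer (X : Set G)) (hgD : g ∈ normalizer (D : Set G))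
    (hgE : g ∈ normalizer (E : Set G)) (hgp : g ^ p = 1) (hmove : Moves E X D g)
    (hex : ∃ x ∈ E, ¬ ∀ d ∈ D, Commute x d) :
    ∃ v w t, Eig X D v ∧ Eig X D w ∧ Eig X D t ∧ Commute v w ∧ Commute v t ∧ Commute w t ∧
      (∃ x ∈ X, ¬ Commute x v) ∧ (∃ x ∈ X, ¬ Commute x w) ∧ (∃ x ∈ X, ¬ Commute x t) ∧
      (∃ x ∈ X, ¬ (Commute x v ↔ Commute x w)) ∧ (∃ x ∈ X, ¬ (Commute x v ↔ Commute x t)) ∧
      (∃ x ∈ X, ¬ (Commute x w ↔ Commute x t)) := by
  obtain ⟨x₀, hx₀, hx₀m⟩ := hex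
  obtain ⟨v₀, hv₀, hv₀x⟩ := exists_eig hp2 hX hXD hD (hEX hx₀) hx₀m
  obtain ⟨v, hv, hvE, hvc⟩ : ∃ v, Eig X D v ∧ (∃ x ∈ E, ¬ Commute x v) ∧
      ((∀ d ∈ D, Commute v d) ∨
        ∀ u, Eig X D u → (∀ d ∈ D, Commute u d) → ∀ x ∈ E, Commute x u) := by
    by_cases h : ∃ u, Eig X D u ∧ (∀ d ∈ D, Commute u d) ∧ ∃ x ∈ E, ¬ Commute x u
    · obtain ⟨u, hu, huc, hux⟩ := h
      exact ⟨u, hu, hux, Or.inl huc⟩
    · exact ⟨v₀, hv₀, ⟨x₀, hx₀, hv₀x⟩, Or.inr fun u hu huc x hx => by_contra fun hn =>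
        h ⟨u, hu, huc, x, hx, hn⟩⟩
  set w := g * v * g⁻¹ with hw
  set t := g * w * g⁻¹ with ht
  have hwE : Eig X D w := hv.conj hp2 hgX hgD
  have htE : Eig X D t := hwE.conj hp2 hgX hgD
  have hgx : ∀ x ∈ E, g * x * g⁻¹ ∈ E := fun x hx => (mem_normalizer_iff.1 hgE x).1 hx
  have hnt : ∀ u, (∃ x ∈ E, ¬ Commute x u) → ∃ x ∈ E, ¬ Commute x (g * u * g⁻¹) := by
    rintro u ⟨x, hx, hxu⟩
    exact ⟨_, hgx x hx, fun h => hxu (by
      have := commute_conj_iff.1 h
      rwa [show g⁻¹ * (g * x * g⁻¹) * g = x by group] at this)⟩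
  obtain ⟨x₁, hx₁, dvw⟩ := hmove v hv hvE
  have dwt : ¬ (Commute (g * x₁ * g⁻¹) w ↔ Commute (g * x₁ * g⁻¹) t) := by
    rw [ht, hw, commute_conj_iff, commute_conj_iff (x := g * x₁ * g⁻¹) (v := g * v * g⁻¹),
      show g⁻¹ * (g * x₁ * g⁻¹) * g = x₁ by group]
    exact dvw
  have dvt : ∃ x ∈ E, ¬ (Commute x v ↔ Commute x t) := by
    by_contra hall
    push Not at hall
    have hinv : ∀ k : ℕ, ∀ x ∈ E, Commute x v ↔ Commute x (g ^ (2 * k) * v * (g ^ (2 * k))⁻¹) := by
      intro k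
      induction k with
      | zero => intro x _; simp
      | succ k ih =>
        intro x hx
        have hx' : g⁻¹ * (g⁻¹ * x * g) * g ∈ E := by
          have h1 := (mem_normalizer_iff.1 (inv_mem hgE) x).1 hx
          have h2 := (mem_normalizer_iff.1 (inv_mem hgE) _).1 h1
          simpa [mul_assoc] using h2
        rw [show g ^ (2 * (k + 1)) * v * (g ^ (2 * (k + 1)))⁻¹ =
            g * (g * (g ^ (2 * k) * v * (g ^ (2 * k))⁻¹) * g⁻¹) * g⁻¹ by
          rw [show 2 * (k + 1) = 2 * k + 1 + 1 by ring, pow_succ' g (2 * k + 1), pow_succ' g (2 * k)]; group,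
          commute_conj_iff, commute_conj_iff, ← ih _ hx', ← commute_conj_iff, ← commute_conj_iff]
        exact hall x hx
    obtain ⟨j, hj⟩ := hp.out.odd_of_ne_two hp2
    have hh := hinv (j + 1) x₁ hx₁
    rw [show 2 * (j + 1) = p + 1 by omega, pow_succ, hgp, one_mul] at hh
    exact dvw hh
  have hpair : ∀ a b, Eig X D a → Eig X D b → (∃ x ∈ E, ¬ (Commute x a ↔ Commute x b)) →
      ((∀ d ∈ D, Commute a d) ∨ ∀ u, Eig X D u → (∀ d ∈ D, Commute u d) → ∀ x ∈ E, Commute x u) →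
      Commute a b := by
    intro a b ha hb ⟨x, hx, hd⟩ h
    rcases h with h | h
    · exact h b hb.mem
    · refine commutatorElement_eq_one_iff_commute.1 (by_contra fun hne => ?_)
      obtain ⟨hu, huc, hiff⟩ := Eig.commutator hp2 hD ha hb hne
      exact hd ((hiff x (hEX hx)).1 (h _ hu huc x hx))
  have hwc : (∀ d ∈ D, Commute w d) ∨ ∀ u, Eig X D u → (∀ d ∈ D, Commute u d) → ∀ x ∈ E, Commute x u := by
    refine hvc.imp (fun h d hd => ?_) id
    have h' := h (g⁻¹ * d * g) (by simpa using (mem_normalizer_iff.1 (inv_mem hgD) d).1 hd)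
    refine commute_iff_conj.2 ?_
    calc w * d * w⁻¹ = g * (v * (g⁻¹ * d * g) * v⁻¹) * g⁻¹ := by rw [hw]; group
      _ = d := by rw [commute_iff_conj.1 h']; group
  obtain ⟨xv, hxv, hxv'⟩ := hvE
  obtain ⟨xw, hxw, hxw'⟩ := hnt v ⟨xv, hxv, hxv'⟩
  obtain ⟨xt, hxt, hxt'⟩ := hnt w ⟨xw, hxw, hxw'⟩
  obtain ⟨x₂, hx₂, dvt'⟩ := dvt
  exact ⟨v, w, t, hv, hwE, htE, hpair v w hv hwE ⟨x₁, hx₁, dvw⟩ hvc, hpair v t hv htE ⟨x₂, hx₂, dvt'⟩ hvc,
    hpair w t hwE htE ⟨_, hgx x₁ hx₁, dwt⟩ hwc, ⟨xv, hEX hxv, hxv'⟩, ⟨xw, hEX hxw, hxw'⟩,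
    ⟨xt, hEX hxt, hxt'⟩, ⟨x₁, hEX hx₁, dvw⟩, ⟨x₂, hEX hx₂, dvt'⟩, ⟨_, hEX (hgx x₁ hx₁), dwt⟩⟩

theorem inf_normalizer_le_normalizer_sup' (X Y : Subgroup G) :
    normalizer (X : Set G) ⊓ normalizer (Y : Set G) ≤ normalizer ((X ⊔ Y : Subgroup G) : Set G) :=
  Signalizer.le_normalizer_sup inf_le_left inf_le_right

theorem sup_zpowers_eq {A B : Subgroup G} (hA : Cfsg.IsElementaryAbelian p A) (hBA : B ≤ A)
    (hB : Nat.card A ≤ p * Nat.card B) {g : G} (hg : g ∈ A) (hgB : g ∉ B) : B ⊔ zpowers g = A := by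
  obtain ⟨-, hc, -⟩ := adjoin (Signalizer.elementary_of_le hA hBA) (hA.2 g hg) hgB
    fun h hh => Signalizer.elementary_commute hA (hBA hh) hg
  exact eq_of_le_of_card_ge (sup_le hBA (zpowers_le.2 hg)) (hc ▸ hB)

theorem card_inf_hyperplanes {A B B₂ : Subgroup G} (hA : Cfsg.IsElementaryAbelian p A) (hBA : B ≤ A)
    (hB₂A : B₂ ≤ A) (hB : Nat.card A ≤ p * Nat.card B) (hB₂ : Nat.card A ≤ p * Nat.card B₂) :
    Nat.card A ≤ p ^ 2 * Nat.card ↥(B ⊓ B₂) := by
  have h := Signalizer.card_mul_set B B₂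
  have hle : Nat.card ↥((B : Set G) * (B₂ : Set G)) ≤ Nat.card A :=
    Nat.card_mono (Set.toFinite _) (by rintro _ ⟨a, ha, b, hb, rfl⟩; exact A.mul_mem (hBA ha) (hB₂A hb))
  have h1 : Nat.card A * Nat.card A ≤ (p ^ 2 * Nat.card ↥(B ⊓ B₂)) * Nat.card A := by
    calc Nat.card A * Nat.card A ≤ (p * Nat.card B) * (p * Nat.card B₂) := Nat.mul_le_mul hB hB₂
      _ = p ^ 2 * (Nat.card B * Nat.card B₂) := by ring
      _ = p ^ 2 * (Nat.card ↥((B : Set G) * (B₂ : Set G)) * Nat.card ↥(B ⊓ B₂)) := by rw [h]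
      _ ≤ p ^ 2 * (Nat.card A * Nat.card ↥(B ⊓ B₂)) :=
          Nat.mul_le_mul_left _ (Nat.mul_le_mul_right _ hle)
      _ = (p ^ 2 * Nat.card ↥(B ⊓ B₂)) * Nat.card A := by ring
  exact Nat.le_of_mul_le_mul_right h1 Nat.card_pos

/-- A `p`-subgroup of rank `m` in a 2-local centralises every elementary abelian 2-subgroup it normalises. -/
theorem Setup.le_centralizer_elementary (S : Setup p m G) {A E₀ : Subgroup G}
    (hA : Cfsg.IsElementaryAbelian p A) (hAm : p ^ m ≤ Nat.card A)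
    (hE₀ : Cfsg.IsElementaryAbelian 2 E₀) (hAE₀ : A ≤ normalizer (E₀ : Set G)) :
    A ≤ centralizer (E₀ : Set G) := by
  classical
  haveI : Fact (Nat.Prime 2) := ⟨Nat.prime_two⟩
  by_contra hcon
  obtain ⟨E, hEmin⟩ := (Set.toFinite {E : Subgroup G | E ≤ E₀ ∧ A ≤ normalizer (E : Set G) ∧
    ¬ A ≤ centralizer (E : Set G)}).exists_minimal ⟨E₀, le_rfl, hAE₀, hcon⟩
  obtain ⟨hEE₀, hAE, hEA⟩ := hEmin.1
  have hE : Cfsg.IsElementaryAbelian 2 E := Signalizer.elementary_of_le hE₀ hEE₀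
  have hmin : ∀ F : Subgroup G, F ≤ E → A ≤ normalizer (F : Set G) → ¬ A ≤ centralizer (F : Set G) → F = E :=
    fun F hFE hAF hF => le_antisymm hFE (hEmin.2 ⟨hFE.trans hEE₀, hAF, hF⟩ hFE)
  have hp2 := S.ne_two
  have hodd : ¬ p ∣ Nat.card E := by
    obtain ⟨n, hn⟩ := (elementary_two_isPGroup hE).exists_card_eq
    rw [hn]
    exact fun h => hp2 ((Nat.prime_dvd_prime_iff_eq hp.out Nat.prime_two).1 (hp.out.dvd_of_dvd_pow h))
  obtain ⟨B, hBA, hBcard, hB⟩ := Signalizer.exists_hyperplane_centralizer_not_le hA (K := E)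
    (D := centralizer (A : Set G)) hodd hAE (fun h => hEA (le_centralizer_iff.1 h))
  have hBE : E ≤ centralizer (B : Set G) := by
    have h := hmin _ inf_le_left (Signalizer.le_normalizer_inf_centralizer hA hAE hBA)
      (fun h => hB (le_centralizer_iff.1 h))
    exact inf_eq_left.1 h
  have hbe : ∀ b ∈ B, ∀ e ∈ E, Commute b e := fun b hb e he => mem_centralizer_iff.1 (hBE he) b hb
  -- an element of `A` outside `B` fixes only the identity of `E`
  have hfree : ∀ a ∈ A, a ∉ B → ∀ e ∈ E, Commute a e → e = 1 := by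
    intro a ha haB e he hae
    haveI := hE.1
    have haE : zpowers a ≤ normalizer (E : Set G) := (zpowers_le.2 ha).trans hAE
    have hcop : (Nat.card (zpowers a)).Coprime (Nat.card E) := by
      rw [Nat.card_zpowers]
      exact Nat.Coprime.coprime_dvd_left (orderOf_dvd_of_pow_eq_one (hA.2 a ha))
        (hp.out.coprime_iff_not_dvd.2 hodd)
    have hnc : ¬ E ≤ centralizer ({a} : Set G) := fun h => hEA (by
      rw [← sup_zpowers_eq hA hBA hBcard ha haB]
      exact sup_le (fun b hb => mem_centralizer_iff.2 fun e he => (hbe b hb e he).eq.symm)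
        (zpowers_le.2 (mem_centralizer_iff.2 fun e he => mem_centralizer_singleton_iff.1 (h he))))
    have hF : ⁅E, zpowers a⁆ = E := by
      refine hmin _ (Solvable.commutator_le_of_normalizes haE)
        (Signalizer.le_normalizer_commutator_elem hA hAE ha) fun h => hnc ?_
      have h1 := Solvable.commutator_commutator_eq haE hcop
        (Or.inr (Group.isSolvable_of_comm fun x y => hE.1.is_comm.comm x y))
      rw [commutator_eq_bot_iff_le_centralizer.2 (le_centralizer_iff.1 ((zpowers_le.2 ha).trans h))] at h1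
      have h2 := commutator_eq_bot_iff_le_centralizer.1 h1.symm
      exact fun x hx => mem_centralizer_singleton_iff.2 (mem_centralizer_iff.1 (h2 hx) a (mem_zpowers a)).symm
    have hmem : e ∈ (E ⊓ centralizer (zpowers a : Set G)) ⊓ ⁅E, zpowers a⁆ := by
      refine ⟨⟨he, mem_centralizer_iff.2 ?_⟩, hF.symm ▸ he⟩
      rintro _ ⟨i, rfl⟩
      exact (hae.zpow_left i).eq
    rw [Solvable.centralizer_inf_commutator_eq_bot haE hcop, mem_bot] at hmem
    exact hmem
  have hEne : ∃ e ∈ E, e ≠ 1 := by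
    by_contra h
    push Not at h
    exact hEA fun a _ => mem_centralizer_iff.2 fun e he => by rw [h e he, one_mul, mul_one]
  have hABne : ∃ a ∈ A, a ∉ B := by
    by_contra h
    push Not at h
    exact hEA fun a ha => mem_centralizer_iff.2 fun e he => (hbe a (h a ha) e he).eq.symm
  have hE4 : 4 ≤ Nat.card E := by
    obtain ⟨a, ha, haB⟩ := hABne
    obtain ⟨e, he, he1⟩ := hEne
    obtain ⟨n, hn⟩ := (elementary_two_isPGroup hE).exists_card_eq
    rcases Nat.lt_or_ge n 2 with h2 | h2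
    · exfalso
      have hle : Nat.card E ≤ 2 := by
        rw [hn]
        exact (pow_le_pow_right₀ one_le_two (show n ≤ 1 by omega)).trans (pow_one 2).le
      have hae : a * e * a⁻¹ ∈ E := (mem_normalizer_iff.1 (hAE ha) e).1 he
      haveI := Fintype.ofFinite E
      rw [Nat.card_eq_fintype_card] at hle
      have hne : a * e * a⁻¹ ≠ 1 := fun h => he1 (conj_eq_one_iff.1 h)
      have h3 : a * e * a⁻¹ ≠ e := fun h => he1 (hfree a ha haB e he (commute_iff_conj.2 h))
      have : ({1, ⟨e, he⟩, ⟨_, hae⟩} : Finset E).card = 3 := by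
        rw [Finset.card_insert_of_notMem, Finset.card_insert_of_notMem, Finset.card_singleton]
        · simp only [Finset.mem_singleton, Subtype.ext_iff]; exact fun h => h3 h.symm
        · simp only [Finset.mem_insert, Finset.mem_singleton, Subtype.ext_iff, OneMemClass.coe_one, not_or]
          exact ⟨fun h => he1 h.symm, fun h => hne h.symm⟩
      have := Finset.card_le_univ ({1, ⟨e, he⟩, ⟨_, hae⟩} : Finset E)
      omega
    · rw [hn]; exact (show 4 = 2 ^ 2 from rfl) ▸ pow_le_pow_right₀ one_le_two h2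
  -- the sign of a signed vector is moved
  have hmoves : ∀ (X D : Subgroup G), E ≤ X → Good p D → ∀ a ∈ A, a ∉ B → Moves E X D a := by
    intro X D hEX hD a ha haB v hv ⟨x₀, hx₀, hx₀v⟩
    by_contra hall
    push Not at hall
    set K := E ⊓ centralizer ({v} : Set G) with hK
    have hKmem : ∀ x ∈ E, x ∈ K ↔ Commute x v := fun x hx =>
      ⟨fun h => mem_centralizer_singleton_iff.1 h.2, fun h => ⟨hx, mem_centralizer_singleton_iff.2 h⟩⟩
    have hKinv : ∀ c ∈ A, ∀ x ∈ K, c * x * c⁻¹ ∈ K := by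
      intro c hc x hx
      have hstep : ∀ y ∈ K, a * y * a⁻¹ ∈ K := by
        intro y hy
        have hy' : a * y * a⁻¹ ∈ E := (mem_normalizer_iff.1 (hAE ha) y).1 hy.1
        rw [hKmem _ hy', hall _ hy', commute_conj_iff, show a⁻¹ * (a * y * a⁻¹) * a = y by group]
        exact (hKmem y hy.1).1 hy
      rw [← sup_zpowers_eq hA hBA hBcard ha haB] at hc
      have hle : B ⊔ zpowers a ≤ normalizer (K : Set G) := by
        refine sup_le (fun b hb => centralizer_le_normalizer _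
          (mem_centralizer_iff.2 fun y hy => (hbe b hb y hy.1).eq.symm)) (zpowers_le.2 ?_)
        exact mem_normalizer_fintype hstep
      exact (mem_normalizer_iff.1 (hle hc) x).1 hx
    have hKbot : ∀ y ∈ K, y = 1 := by
      intro y hy
      refine hfree a ha haB y hy.1 (by_contra fun hn => ?_)
      have hAK : A ≤ normalizer (K : Set G) := fun c hc => mem_normalizer_fintype (hKinv c hc)
      have hKE := hmin K inf_le_left hAK fun h => hn (mem_centralizer_iff.1 (h ha) y hy).symm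
      exact hx₀v ((hKmem x₀ hx₀).1 (hKE.symm ▸ hx₀))
    have h2 : ∀ x ∈ E, x ≠ 1 → x = x₀ := by
      intro x hx hx1
      have hxi := hv.inverts (hEX hx) fun h => hx1 (hKbot x ((hKmem x hx).2 h))
      have hx0i := hv.inverts (hEX hx₀) hx₀v
      have := hKbot _ ((hKmem _ (E.mul_mem hx hx₀)).2 (hxi.commute_mul hx0i))
      calc x = x * (x₀ * x₀) := by rw [show x₀ * x₀ = 1 by rw [← sq]; exact hE.2 x₀ hx₀, mul_one]
        _ = x₀ := by rw [← mul_assoc, this, one_mul]
    haveI := Fintype.ofFinite E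
    have : (Finset.univ : Finset E) ⊆ {1, ⟨x₀, hx₀⟩} := fun x _ => by
      rcases eq_or_ne (x : G) 1 with h | h
      · simp [Subtype.ext_iff, h]
      · simp [Subtype.ext_iff, h2 x x.2 h]
    have h3 := (Finset.card_le_card this).trans (Finset.card_le_two)
    rw [Finset.card_univ, ← Nat.card_eq_fintype_card] at h3
    omega
  have hp1 := hp.out.one_lt
  have hBcard' : p ^ (m - 1) ≤ Nat.card B := by
    have h : p * p ^ (m - 1) ≤ p * Nat.card B := by
      rw [← pow_succ', Nat.sub_add_cancel (by linarith [S.three])]; exact hAm.trans hBcard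
    exact Nat.le_of_mul_le_mul_left h hp.out.pos
  have hB1 : B ≠ ⊥ := fun h => by
    rw [h, card_bot] at hBcard'
    have := Nat.one_lt_pow (show m - 1 ≠ 0 by have := S.three; omega) hp1
    omega
  -- `E` is central in the core of its normalizer
  set M := normalizer (E : Set G) with hM
  set T := (Cfsg.pCore 2 ↥M).map M.subtype with hTdef
  have hT2 : IsPGroup 2 T := (Solvable.pCore_isPGroup 2 ↥M).map _
  have hMT : M ≤ normalizer (T : Set G) := by
    haveI := Solvable.pCore_characteristic (p := 2) ↥M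
    exact le_trans le_normalizer (OddOrder.normalizer_le_normalizer_map_of_characteristic M _)
  have hET : E ≤ T := fun e he => ⟨⟨e, le_normalizer he⟩,
    Solvable.le_pCore (normal_in_normalizer (H := E)) ((elementary_two_isPGroup hE).comap_subtype) he, rfl⟩
  have hfaith : ∀ g ∈ M, g ^ p = 1 → (∀ t ∈ T, Commute g t) → g = 1 := by
    intro g hg hgp hgt
    have hmem : (⟨g, hg⟩ : M) ∈ Cfsg.pCore 2 ↥M := by
      refine (S.charTwo.2 E (elementary_two_isPGroup hE) ?_) (mem_centralizer_iff.2 fun t ht => Subtype.ext ?_)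
      · intro h
        obtain ⟨e, he, he1⟩ := hEne
        rw [h] at he
        exact he1 (mem_bot.1 he)
      · exact (hgt (t : G) ⟨t, ht, rfl⟩).eq.symm
    obtain ⟨k, hk⟩ := IsPGroup.iff_orderOf.mp (Solvable.pCore_isPGroup 2 ↥M) ⟨_, hmem⟩
    rw [orderOf_mk, orderOf_mk] at hk
    refine orderOf_eq_one_iff.1 (Nat.dvd_one.1 ?_)
    rw [← ((Nat.coprime_primes hp.out Nat.prime_two).2 hp2).pow_right k]
    exact Nat.dvd_gcd (orderOf_dvd_of_pow_eq_one hgp) hk.dvd
  have hEcen : ∀ e ∈ E, ∀ t ∈ T, Commute e t := by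
    have hEn : (E.subgroupOf T).Normal :=
      (normal_subgroupOf_iff_le_normalizer hET).2 (fun t ht => map_subtype_le _ ht)
    haveI := hEn
    set F := E ⊓ centralizer (T : Set G) with hF
    have hFE : F = E := by
      refine hmin F inf_le_left (Signalizer.le_normalizer_inf hAE
        (Signalizer.le_normalizer_centralizer (hAE.trans hMT))) fun h => ?_
      obtain ⟨a, ha, haB⟩ := hABne
      obtain ⟨z, ⟨hz, hzc⟩, hz1⟩ := Solvable.exists_ne_one_mem_inf_center_of_normal hT2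
        (N := E.subgroupOf T) (fun hb => by
          rw [subgroupOf_eq_bot, disjoint_iff, inf_eq_left.2 hET] at hb
          obtain ⟨e, he, he1⟩ := hEne
          rw [hb] at he
          exact he1 (mem_bot.1 he))
      have hzF : (z : G) ∈ F := ⟨mem_subgroupOf.1 hz, mem_centralizer_iff.2 fun t ht =>
        congrArg Subtype.val (mem_center_iff.1 hzc ⟨t, ht⟩)⟩
      exact hz1 (Subtype.ext (hfree a ha haB z hzF.1 (mem_centralizer_iff.1 (h ha) z hzF).symm))
    intro e he t ht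
    rw [← hFE] at he
    exact (mem_centralizer_iff.1 he.2 t ht).symm
  have hTodd : ¬ p ∣ Nat.card T := by
    obtain ⟨n, hn⟩ := hT2.exists_card_eq
    rw [hn]
    exact fun h => hp2 ((Nat.prime_dvd_prime_iff_eq hp.out Nat.prime_two).1 (hp.out.dvd_of_dvd_pow h))
  obtain ⟨B₂, hB₂A, hB₂card, hB₂⟩ := Signalizer.exists_hyperplane_centralizer_not_le hA (K := T)
    (D := centralizer (B : Set G)) hTodd (hAE.trans hMT) (fun h => by
      obtain ⟨b, hb⟩ := (Subgroup.ne_bot_iff_exists_ne_one.1 hB1)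
      exact hb (Subtype.ext (hfaith b (hAE (hBA b.2)) (hA.2 b (hBA b.2))
        fun t ht => mem_centralizer_iff.1 (h ht) b b.2)))
  set R := T ⊓ centralizer (B₂ : Set G) with hR
  obtain ⟨b, hb, hbR⟩ : ∃ b ∈ B, ¬ ∀ r ∈ R, Commute b r := by
    by_contra h
    push Not at h
    exact hB₂ fun r hr => mem_centralizer_iff.2 fun b hb => (h b hb r hr).eq
  have hbB₂ : b ∉ B₂ := fun h => hbR fun r hr => mem_centralizer_iff.1 hr.2 b h
  obtain ⟨b₂, hb₂, hb₂B⟩ : ∃ x ∈ B₂, x ∉ B := by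
    by_contra h
    push Not at h
    obtain ⟨-, hc, -⟩ := adjoin (Signalizer.elementary_of_le hA hB₂A) (hA.2 b (hBA hb)) hbB₂
      fun x hx => Signalizer.elementary_commute hA (hB₂A hx) (hBA hb)
    have h1 : Nat.card ↥(B₂ ⊔ zpowers b) ≤ Nat.card B := card_le_of_le (sup_le h (zpowers_le.2 hb))
    obtain ⟨a, ha, haB⟩ := hABne
    have h2 : B = A := eq_of_le_of_card_ge hBA ((hB₂card.trans hc.ge).trans h1)
    exact haB (h2.symm ▸ ha)
  set C := B ⊓ B₂ with hCdef
  have hC : Cfsg.IsElementaryAbelian p C := Signalizer.elementary_of_le hA (inf_le_left.trans hBA)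
  have hCcard : p ^ (m - 2) ≤ Nat.card C := by
    have h := hAm.trans (card_inf_hyperplanes hA hBA hB₂A hBcard hB₂card)
    rw [show m = 2 + (m - 2) by have := S.three; omega, pow_add] at h
    exact Nat.le_of_mul_le_mul_left h (pow_pos hp.out.pos 2)
  have hC1 : C ≠ ⊥ := fun h => by
    rw [h, card_bot] at hCcard
    have := Nat.one_lt_pow (show m - 2 ≠ 0 by have := S.three; omega) hp1
    omega
  have hcard3 : p ^ (m + 1) ≤ p ^ 3 * Nat.card C := by
    rw [show m + 1 = 3 + (m - 2) by have := S.three; omega, pow_add]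
    exact Nat.mul_le_mul_left _ hCcard
  obtain ⟨D, hD, hDC, hCD, hDf⟩ := exists_core hp2 S.charP hC hC1
  have hCDc : ∀ c ∈ C, ∀ d ∈ D, Commute c d := fun c hc d hd => mem_centralizer_iff.1 (hDC hd) c hc
  have hEC : E ≤ centralizer (C : Set G) := hBE.trans (centralizer_le inf_le_left)
  have hRC : R ≤ centralizer (C : Set G) := inf_le_right.trans (centralizer_le inf_le_right)
  have hAC : A ≤ centralizer (C : Set G) := fun a ha => mem_centralizer_iff.2 fun c hc =>
    Signalizer.elementary_commute hA (hBA hc.1) ha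
  obtain ⟨e₀, he₀, he₀1⟩ := hEne
  have he₀D : ¬ ∀ d ∈ D, Commute e₀ d := fun h => he₀1 (hDf e₀ (hEC he₀)
    (coprime_two_of_sq hp2 (by rw [← sq]; exact hE.2 e₀ he₀)) h)
  have hb₂A := hB₂A hb₂
  have hRn : A ≤ normalizer (R : Set G) :=
    Signalizer.le_normalizer_inf_centralizer hA (hAE.trans hMT) hB₂A
  by_cases hcase : ∃ U : Subgroup G, U ≤ R ∧ Cfsg.IsElementaryAbelian 2 U ∧
      b ∈ normalizer (U : Set G) ∧ ∃ u ∈ U, ¬ Commute b u
  · obtain ⟨U, hUR, hU, hbU, u, hu, hbu⟩ := hcase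
    haveI := hU.1
    have hzU : zpowers b ≤ normalizer (U : Set G) := zpowers_le.2 hbU
    have hcop : (Nat.card (zpowers b)).Coprime (Nat.card U) := by
      rw [Nat.card_zpowers]
      obtain ⟨n, hn⟩ := (elementary_two_isPGroup hU).exists_card_eq
      rw [hn]
      exact Nat.Coprime.coprime_dvd_left (orderOf_dvd_of_pow_eq_one (hA.2 b (hBA hb)))
        (((Nat.coprime_primes hp.out Nat.prime_two).2 hp2).pow_right n)
    set U' := ⁅U, zpowers b⁆ with hU'def
    have hU'U : U' ≤ U := Solvable.commutator_le_of_normalizes hzU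
    have hU'fix : ∀ y ∈ U', Commute b y → y = 1 := by
      intro y hy hby
      have : y ∈ (U ⊓ centralizer (zpowers b : Set G)) ⊓ U' := by
        refine ⟨⟨hU'U hy, mem_centralizer_iff.2 ?_⟩, hy⟩
        rintro _ ⟨i, rfl⟩
        exact (hby.zpow_left i).eq
      rw [Solvable.centralizer_inf_commutator_eq_bot hzU hcop, mem_bot] at this
      exact this
    set y := ⁅u, b⁆ with hy
    have hyU : y ∈ U' := commutator_mem_commutator hu (mem_zpowers b)
    have hy1 : y ≠ 1 := fun h => hbu (commutatorElement_eq_one_iff_commute.1 h).symm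
    have hU'E : E ⊓ U' = ⊥ := by
      rw [eq_bot_iff]
      exact fun z hz => mem_bot.2 (hU'fix z hz.2 (hbe b hb z hz.1))
    have hU'3 : 4 ≤ Nat.card U' := by
      have hU'el : Cfsg.IsElementaryAbelian 2 U' := Signalizer.elementary_of_le hU hU'U
      obtain ⟨n, hn⟩ := (elementary_two_isPGroup hU'el).exists_card_eq
      have hby : b * y * b⁻¹ ∈ U' :=
        (mem_normalizer_iff.1 (Solvable.le_normalizer_commutator_right U (zpowers b) (mem_zpowers b)) y).1 hyU
      haveI := Fintype.ofFinite U'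
      have h3 : ({1, ⟨y, hyU⟩, ⟨_, hby⟩} : Finset U').card = 3 := by
        rw [Finset.card_insert_of_notMem, Finset.card_insert_of_notMem, Finset.card_singleton]
        · simp only [Finset.mem_singleton, Subtype.ext_iff]
          exact fun h => hy1 (hU'fix y hyU (commute_iff_conj.2 h.symm))
        · simp only [Finset.mem_insert, Finset.mem_singleton, Subtype.ext_iff, OneMemClass.coe_one, not_or]
          exact ⟨fun h => hy1 h.symm, fun h => hy1 (conj_eq_one_iff.1 h.symm)⟩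
      have h4 := Finset.card_le_univ ({1, ⟨y, hyU⟩, ⟨_, hby⟩} : Finset U')
      rw [h3, ← Nat.card_eq_fintype_card, hn] at h4
      rcases Nat.lt_or_ge n 2 with h2 | h2
      · have := pow_le_pow_right₀ (one_le_two : 1 ≤ 2) (show n ≤ 1 by omega); omega
      · rw [hn]; exact (show 4 = 2 ^ 2 from rfl) ▸ pow_le_pow_right₀ one_le_two h2
    set X := E ⊔ U' with hXdef
    have hcomm : ∀ e ∈ E, ∀ w ∈ U', Commute e w := fun e he w hw => hEcen e he w (hUR (hU'U hw)).1
    have hX : Cfsg.IsElementaryAbelian 2 X := by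
      have hrep : ∀ s ∈ X, ∃ e ∈ E, ∃ w ∈ U', e * w = s := by
        intro s hs
        have h : s ∈ ((E ⊔ U' : Subgroup G) : Set G) := hs
        rw [coe_mul_of_left_le_normalizer_right E U'
          (fun e he => centralizer_le_normalizer _ (mem_centralizer_iff.2 fun w hw => (hcomm e he w hw).eq.symm))] at h
        obtain ⟨e, he, w, hw, rfl⟩ := h
        exact ⟨e, he, w, hw, rfl⟩
      have hU'el : Cfsg.IsElementaryAbelian 2 U' := Signalizer.elementary_of_le hU hU'U
      refine ⟨⟨⟨fun s t => Subtype.ext ?_⟩⟩, fun s hs => ?_⟩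
      · obtain ⟨e, he, w, hw, hs⟩ := hrep s s.2
        obtain ⟨f, hf, x, hx, ht⟩ := hrep t t.2
        show (s : G) * t = t * s
        rw [← hs, ← ht]
        have c1 : Commute e f := Signalizer.elementary_commute hE he hf
        have c2 : Commute w x := Signalizer.elementary_commute hU'el hw hx
        exact ((c1.mul_right (hcomm e he x hx)).mul_left ((hcomm f hf w hw).symm.mul_right c2)).eq
      · obtain ⟨e, he, w, hw, rfl⟩ := hrep s hs
        rw [(hcomm e he w hw).mul_pow, hE.2 e he, hU'el.2 w hw, one_mul]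
    have hXcard : 8 < Nat.card X := by
      have h := Signalizer.card_mul_set E U'
      rw [hU'E, card_bot, mul_one] at h
      have h' : Nat.card ↥((E : Set G) * (U' : Set G)) ≤ Nat.card X :=
        Nat.card_mono (Set.toFinite _) (by
          rintro _ ⟨e, he, w, hw, rfl⟩; exact X.mul_mem (mem_sup_left he) (mem_sup_right hw))
      have := Nat.mul_le_mul hE4 hU'3
      omega
    have hXC : X ≤ centralizer (C : Set G) := sup_le hEC ((hU'U.trans hUR).trans hRC)
    have hb₂X : b₂ ∈ normalizer (X : Set G) := by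
      have h2 : b₂ ∈ normalizer (U' : Set G) := centralizer_le_normalizer _
        (mem_centralizer_iff.2 fun w hw => (mem_centralizer_iff.1 (hUR (hU'U hw)).2 b₂ hb₂).symm)
      exact inf_normalizer_le_normalizer_sup' _ _ ⟨hAE hb₂A, h2⟩
    obtain ⟨v, w, t, hv, hw, ht, cvw, cvt, cwt, nv, nw, nt, dvw, dvt, dwt⟩ := exists_three hp2
      hX (hXC.trans hCD) hD le_sup_left hb₂X (hCD (hAC hb₂A)) (hAE hb₂A) (hA.2 b₂ hb₂A)
      (hmoves X D le_sup_left hD b₂ hb₂A hb₂B) ⟨e₀, he₀, he₀D⟩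
    obtain ⟨L, hL, hLcard, hLc⟩ := card_three hp2 hC
      (fun x hx c hc => (mem_centralizer_iff.1 (hXC hx) c hc).symm) hD hv hw ht hCDc cvw cvt cwt nv nw nt dvw dvt dwt
    obtain ⟨x, hx, hx1, hxv, hxw, hxt⟩ := exists_common X hX hv hw ht hXcard
    exact S.contra hX hx hx1 hL (hLcard ▸ hcard3)
      (hLc x (fun c hc => (mem_centralizer_iff.1 (hXC hx) c hc).symm) hxv hxw hxt)
  push Not at hcase
  have hR2 : IsPGroup 2 R := hT2.to_le inf_le_left
  obtain ⟨z, hzR, hz1, hz2, hzA⟩ : ∃ z ∈ R, z ≠ 1 ∧ z ^ 2 = 1 ∧ ∀ a ∈ A, Commute a z := by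
    let W : Subgroup G :=
      { carrier := {x | x ∈ R ∧ x ^ 2 = 1 ∧ ∀ r ∈ R, Commute x r}
        one_mem' := ⟨R.one_mem, one_pow _, fun r _ => Commute.one_left r⟩
        mul_mem' := fun {x y} hx hy => ⟨R.mul_mem hx.1 hy.1, by
            rw [(hx.2.2 y hy.1).mul_pow, hx.2.1, hy.2.1, one_mul],
          fun r hr => (hx.2.2 r hr).mul_left (hy.2.2 r hr)⟩
        inv_mem' := fun {x} hx => ⟨R.inv_mem hx.1, by rw [inv_pow, hx.2.1, inv_one],
          fun r hr => (hx.2.2 r hr).inv_left⟩ }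
    have hWn : b ∈ normalizer (W : Set G) := by
      refine mem_normalizer_fintype fun x hx => ⟨(mem_normalizer_iff.1 (hRn (hBA hb)) x).1 hx.1, by
        rw [conj_pow, hx.2.1, mul_one, mul_inv_cancel], fun r hr => ?_⟩
      have hr' : b⁻¹ * r * b ∈ R := by
        simpa using (mem_normalizer_iff.1 (hRn (A.inv_mem (hBA hb))) r).1 hr
      refine commute_iff_conj.2 ?_
      calc b * x * b⁻¹ * r * (b * x * b⁻¹)⁻¹ = b * (x * (b⁻¹ * r * b) * x⁻¹) * b⁻¹ := by group
        _ = r := by rw [commute_iff_conj.1 (hx.2.2 _ hr')]; group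
    obtain ⟨c, ⟨-, hc⟩, hc1⟩ := Solvable.exists_ne_one_mem_inf_center_of_normal hR2 (N := (⊤ : Subgroup R))
      (fun h => hbR fun r hr => by
        have : (⟨r, hr⟩ : R) ∈ (⊥ : Subgroup R) := h ▸ mem_top _
        rw [mem_bot, Subtype.ext_iff] at this
        simp only [OneMemClass.coe_one] at this
        rw [this]; exact Commute.one_right b)
    obtain ⟨k, hk⟩ := IsPGroup.iff_orderOf.mp hR2 c
    have hk0 : k ≠ 0 := fun h => hc1 (orderOf_eq_one_iff.1 (by rw [hk, h, pow_zero]))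
    obtain ⟨l, rfl⟩ := Nat.exists_eq_succ_of_ne_zero hk0
    set z : R := c ^ 2 ^ l with hz
    have hzW : (z : G) ∈ W := ⟨z.2, by
        rw [hz, ← SubmonoidClass.coe_pow, ← pow_mul, ← pow_succ, ← hk, pow_orderOf_eq_one, OneMemClass.coe_one],
      fun r hr => congrArg Subtype.val (show Commute z ⟨r, hr⟩ from
        (show Commute c ⟨r, hr⟩ from (mem_center_iff.1 hc ⟨r, hr⟩).symm).pow_left _).eq⟩
    have hWel : Cfsg.IsElementaryAbelian 2 W :=
      ⟨⟨⟨fun x y => Subtype.ext (x.2.2.2 y y.2.1).eq⟩⟩, fun x hx => hx.2.1⟩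
    have hbz : Commute b (z : G) := hcase W (fun x hx => hx.1) hWel hWn z hzW
    refine ⟨z, z.2, fun h => ?_, hzW.2.1, fun a ha => ?_⟩
    · have h2 := orderOf_dvd_of_pow_eq_one (x := c) (n := 2 ^ l) (Subtype.ext h)
      rw [hk] at h2
      have := (Nat.pow_dvd_pow_iff_le_right (by norm_num : 1 < 2)).mp h2
      omega
    · rw [← sup_zpowers_eq hA hB₂A hB₂card (hBA hb) hbB₂] at ha
      exact (centralizer_adjoin (y := (z : G))
        (fun x hx => (mem_centralizer_iff.1 z.2.2 x hx).symm) hbz.symm a ha).symm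
  have hzz : z * z = 1 := by rw [← sq]; exact hz2
  have hzE : z ∉ E := fun h => hz1 (hfree b₂ hb₂A hb₂B z h (hzA b₂ hb₂A))
  obtain ⟨hX0, hXcard0⟩ : Cfsg.IsElementaryAbelian 2 (E ⊔ zpowers z) ∧
      Nat.card ↥(E ⊔ zpowers z) = 2 * Nat.card E :=
    ⟨(adjoin hE hz2 hzE fun e he => hEcen e he z hzR.1).1, (adjoin hE hz2 hzE fun e he => hEcen e he z hzR.1).2.1⟩
  set X := E ⊔ zpowers z with hXdef
  have hzC : z ∈ centralizer (C : Set G) := hRC hzR
  have hXC : X ≤ centralizer (C : Set G) := sup_le hEC (zpowers_le.2 hzC)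
  have hzX : z ∈ X := mem_sup_right (mem_zpowers z)
  have hzE' : ∀ e ∈ E, Commute z e := fun e he => (hEcen e he z hzR.1).symm
  set Dz := D ⊓ centralizer ({z} : Set G) with hDz
  have hEDz : ∀ e ∈ E, ∀ d ∈ Dz, Commute e d := by
    by_contra hn
    push Not at hn
    obtain ⟨e₁, he₁, d, hd, hed⟩ := hn
    have hb₂z : b₂ ∈ normalizer ((centralizer ({z} : Set G) : Subgroup G) : Set G) :=
      le_normalizer (mem_centralizer_singleton_iff.2 (hzA b₂ hb₂A).eq)
    obtain ⟨v, w, t, hv, hw, ht, cvw, cvt, cwt, nv, nw, nt, dvw, dvt, dwt⟩ := exists_three hp2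
      hE (Signalizer.le_normalizer_inf (hEC.trans hCD)
        (le_trans (fun e he => mem_centralizer_singleton_iff.2 (hzE' e he).eq.symm) le_normalizer))
      (hD.of_le inf_le_left) le_rfl (hAE hb₂A) (inf_normalizer_le_normalizer_inf ⟨hCD (hAC hb₂A), hb₂z⟩)
      (hAE hb₂A) (hA.2 b₂ hb₂A) (hmoves E Dz le_rfl (hD.of_le inf_le_left) b₂ hb₂A hb₂B)
      ⟨e₁, he₁, fun h => hed (h d hd)⟩
    obtain ⟨L, hL, hLcard, hLc⟩ := card_three hp2 hC
      (fun x hx c hc => (mem_centralizer_iff.1 (hEC hx) c hc).symm) (hD.of_le inf_le_left) hv hw ht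
      (fun c hc d hd => hCDc c hc d hd.1) cvw cvt cwt nv nw nt dvw dvt dwt
    exact S.contra hX0 hzX hz1 hL (hLcard ▸ hcard3)
      (hLc z (fun c hc => (mem_centralizer_iff.1 hzC c hc).symm) (mem_centralizer_singleton_iff.1 hv.mem.2).symm
        (mem_centralizer_singleton_iff.1 hw.mem.2).symm (mem_centralizer_singleton_iff.1 ht.mem.2).symm)
  have hEinv : ∀ u, Eig X D u → (∃ e ∈ E, ¬ Commute e u) → Inverts z u := by
    rintro u hu ⟨e, he, heu⟩
    exact hu.inverts hzX fun h => heu (hEDz e he u ⟨hu.mem, mem_centralizer_singleton_iff.2 h.eq.symm⟩)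
  obtain ⟨v₀, hv₀, hv₀e⟩ := exists_eig hp2 hX0 (hXC.trans hCD) hD (mem_sup_left he₀) he₀D
  have hzv₀ := hEinv v₀ hv₀ ⟨e₀, he₀, hv₀e⟩
  set K := X ⊓ centralizer ({v₀} : Set G) with hK
  set D₁ := D ⊓ centralizer (K : Set G) with hD₁
  have hbX : ∀ x ∈ X, Commute b x := centralizer_adjoin (hbe b hb) (hzA b (hBA hb))
  have hv₀D₁ : v₀ ∈ D₁ := ⟨hv₀.mem, mem_centralizer_iff.2 fun x hx =>
    (mem_centralizer_singleton_iff.1 hx.2)⟩
  have hzK : ∀ x ∈ K, Commute z x := fun x hx => Signalizer.elementary_commute hX0 hzX hx.1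
  obtain ⟨v, hvD₁, hv1, hzv, hbv⟩ := exists_fixed_inverted hp2 (A := zpowers b) (y := z) (D := D₁)
    ((Signalizer.elementary_isPGroup hA).to_le (zpowers_le.2 (hBA hb))) hzz (hD.of_le inf_le_left)
    (inf_normalizer_le_normalizer_inf ⟨hCD hzC, le_normalizer_centralizer' K hzK⟩)
    (zpowers_le.2 (inf_normalizer_le_normalizer_inf
      ⟨hCD (hAC (hBA hb)), le_normalizer_centralizer' K fun x hx => hbX x hx.1⟩))
    (fun a ha => by obtain ⟨i, rfl⟩ := ha; exact (hzA b (hBA hb)).zpow_left i)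
    (fun h => Inverts.not_commute hp2 (hD.expo _ hv₀.mem) hv₀.ne hzv₀ (h v₀ hv₀D₁))
  have hbv' : Commute b v := hbv b (mem_zpowers b)
  have hvpat : ∀ x ∈ X, (Commute x v₀ → Commute x v) ∧ (¬ Commute x v₀ → Inverts x v) := by
    intro x hx
    refine ⟨fun h => mem_centralizer_iff.1 hvD₁.2 x ⟨hx, mem_centralizer_singleton_iff.2 h⟩, fun h => ?_⟩
    have hxz : x * z ∈ K := ⟨X.mul_mem hx hzX,
      mem_centralizer_singleton_iff.2 ((hv₀.inverts hx h).commute_mul hzv₀)⟩
    have h2 := Inverts.commute_left (mem_centralizer_iff.1 hvD₁.2 _ hxz) hzv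
    rwa [mul_assoc, hzz, mul_one] at h2
  have hv : Eig X D v := ⟨hvD₁.1, hv1, fun x hx => (em (Commute x v₀)).imp (hvpat x hx).1 (hvpat x hx).2⟩
  have hve : ¬ Commute e₀ v :=
    Inverts.not_commute hp2 (hD.expo v hvD₁.1) hv1 ((hvpat e₀ (mem_sup_left he₀)).2 hv₀e)
  set w := b₂ * v * b₂⁻¹ with hwdef
  have hb₂X : b₂ ∈ normalizer (X : Set G) := inf_normalizer_le_normalizer_sup' _ _
    ⟨hAE hb₂A, centralizer_le_normalizer _ (by
      rintro _ ⟨i, rfl⟩; exact ((hzA b₂ hb₂A).zpow_right i).eq.symm)⟩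
  have hwEig : Eig X D w := hv.conj hp2 hb₂X (hCD (hAC hb₂A))
  obtain ⟨x₁, hx₁, hdvw⟩ := hmoves X D le_sup_left hD b₂ hb₂A hb₂B v hv ⟨e₀, he₀, hve⟩
  have hbw : Commute b w := by
    have h := Signalizer.elementary_commute hA (hBA hb) hb₂A
    exact ((show Commute b b₂ from h).mul_right hbv').mul_right (show Commute b b₂ from h).inv_right
  have hzw : Inverts z w := by
    have h := commute_iff_conj.1 (hzA b₂ hb₂A)
    unfold Inverts at hzv ⊢
    calc z * w * z⁻¹ = (b₂ * z * b₂⁻¹) * w * (b₂ * z * b₂⁻¹)⁻¹ := by rw [h]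
      _ = b₂ * (z * v * z⁻¹) * b₂⁻¹ := by rw [hwdef]; group
      _ = w⁻¹ := by rw [hzv, hwdef]; group
  have hvw : Commute v w := by
    refine commutatorElement_eq_one_iff_commute.1 (by_contra fun hne => ?_)
    obtain ⟨hu, -, hiff⟩ := Eig.commutator hp2 hD hv hwEig hne
    have hzu : Commute z ⁅v, w⁆ := (hiff z hzX).2 (iff_of_false
      (Inverts.not_commute hp2 (hD.expo v hv.mem) hv1 hzv) (Inverts.not_commute hp2 (hD.expo w hwEig.mem) hwEig.ne hzw))
    exact hdvw ((hiff x₁ (mem_sup_left hx₁)).1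
      (hEDz x₁ hx₁ _ ⟨hu.mem, mem_centralizer_singleton_iff.2 hzu.eq.symm⟩))
  have hXCc : ∀ x ∈ X, ∀ c ∈ C, Commute x c := fun x hx c hc => (mem_centralizer_iff.1 (hXC hx) c hc).symm
  obtain ⟨hH1, hc1, -⟩ := adjoin hC (hA.2 b (hBA hb)) (fun h => hbB₂ h.2)
    (fun c hc => Signalizer.elementary_commute hA (hBA hc.1) (hBA hb))
  have hH1X : ∀ x ∈ X, ∀ h ∈ C ⊔ zpowers b, Commute x h := fun x hx =>
    centralizer_adjoin (hXCc x hx) (hbX x hx).symm
  have hvH : v ∉ C ⊔ zpowers b := fun h => hve (hH1X e₀ (mem_sup_left he₀) v h)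
  obtain ⟨hH2, hc2, -⟩ := adjoin hH1 (hD.expo v hv.mem) hvH
    (fun h hh => (centralizer_adjoin (fun c hc => (hCDc c hc v hv.mem).symm) hbv'.symm h hh).symm)
  obtain ⟨x, hx, hxv, hxw⟩ := exists_fix_invert hp2 hD hwEig hv
    ⟨x₁, mem_sup_left hx₁, fun e => hdvw e.symm⟩
    ⟨z, hzX, Inverts.not_commute hp2 (hD.expo w hwEig.mem) hwEig.ne hzw⟩
  have hwH : w ∉ C ⊔ zpowers b ⊔ zpowers v := fun h =>
    Inverts.not_commute hp2 (hD.expo w hwEig.mem) hwEig.ne hxw (centralizer_adjoin (hH1X x hx) hxv w h)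
  obtain ⟨hH3, hc3, -⟩ := adjoin hH2 (hD.expo w hwEig.mem) hwH
    (fun h hh => (centralizer_adjoin (centralizer_adjoin (fun c hc => (hCDc c hc w hwEig.mem).symm) hbw.symm)
      hvw.symm h hh).symm)
  obtain ⟨y, hy, hy1, hyv, hyw⟩ := exists_common_two X hX0 hv hwEig (by rw [hXcard0]; omega)
  refine S.contra hX0 hy hy1 hH3 ?_ (centralizer_adjoin (centralizer_adjoin (hH1X y hy) hyv) hyw)
  rw [hc3, hc2, hc1]
  calc p ^ (m + 1) ≤ p ^ 3 * Nat.card C := hcard3
    _ = p * (p * (p * Nat.card C)) := by ring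
where
  le_normalizer_centralizer' (K : Subgroup G) {g : G} (h : ∀ x ∈ K, Commute g x) :
      g ∈ normalizer ((centralizer (K : Set G) : Subgroup G) : Set G) :=
    le_normalizer (mem_centralizer_iff.2 fun x hx => (h x hx).eq.symm)

end CfsgLib.KlingerMason
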