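import Cfsg.Agent.Lib.KlingerMason.BlockStructure

/-!
The theorem of Klinger and Mason: in a group of characteristic `2` and `p` type the `p`-rank of a
2-local subgroup is at most two.
-/

set_option autoImplicit false
set_option linter.style.haveILetI false

open scoped commutatorElement Pointwise

namespace CfsgLib.KlingerMason

open Subgroup

variable {G : Type*} [Group G] [Finite G] {p m : ℕ} [hp : Fact p.Prime]

theorem commute_flip {X D : Subgroup G} {v g x z : G} (hp2 : p ≠ 2) (hD : Good p D) (hv : Eig X D v)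
    (hx : x ∈ X) (hzx : Commute z x) (hzv : Inverts z v) (hgx : g⁻¹ * x * g = z * x) :
    Commute x (g * v * g⁻¹) ↔ ¬ Commute x v := by
  rw [commute_conj_iff, hgx]
  constructor
  · intro h hc
    exact Inverts.not_commute hp2 (hD.expo v hv.mem) hv.ne hzv (by simpa using h.mul_left hc.inv_left)
  · intro hn
    exact hzv.commute_mul (hv.inverts hx hn)

theorem commute_same {v g x : G} (h : Commute g x) : Commute x (g * v * g⁻¹) ↔ Commute x v := by
  rw [commute_conj_iff, mul_assoc, ← h.eq, inv_mul_cancel_left]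

omit [Finite G] in
theorem inverts_conj {v g z : G} (h : Commute z g) (hzv : Inverts z v) : Inverts z (g * v * g⁻¹) := by
  unfold Inverts at hzv ⊢
  calc z * (g * v * g⁻¹) * z⁻¹ = (z * g) * v * (z * g)⁻¹ := by group
    _ = (g * z) * v * (g * z)⁻¹ := by rw [h.eq]
    _ = g * (z * v * z⁻¹) * g⁻¹ := by group
    _ = (g * v * g⁻¹)⁻¹ := by rw [hzv]; group

theorem Block.conj_inv_eq {U : Subgroup G} {a z : G} (h : Block p U a z) {x g : G} (hx : x ∈ U) (hg : g ∈ U)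
    (hc : ¬ Commute x g) : g⁻¹ * x * g = z * x := by
  have := h.conj_eq hx (U.inv_mem hg) fun c => hc (by simpa using c.inv_right)
  simpa using this

omit [Finite G] in
theorem commute_map_conj {u v : G} (g : G) (h : Commute u v) : Commute (g * u * g⁻¹) (g * v * g⁻¹) := by
  refine commute_iff_conj.2 ?_
  calc g * u * g⁻¹ * (g * v * g⁻¹) * (g * u * g⁻¹)⁻¹ = g * (u * v * u⁻¹) * g⁻¹ := by group
    _ = g * v * g⁻¹ := by rw [commute_iff_conj.1 h]

/-- The conclusion. -/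
theorem Setup.false_of_rank (S : Setup p m G) {X₀ A : Subgroup G} (hX₀ : IsPGroup 2 X₀) (hX₀1 : X₀ ≠ ⊥)
    (hA : Cfsg.IsElementaryAbelian p A) (hAX : A ≤ normalizer (X₀ : Set G)) (hAm : p ^ m ≤ Nat.card A) :
    False := by
  classical
  haveI : Fact (Nat.Prime 2) := ⟨Nat.prime_two⟩
  have hp2 := S.ne_two
  have hp1 := hp.out.one_lt
  set M := normalizer (X₀ : Set G) with hM
  set T := (Cfsg.pCore 2 ↥M).map M.subtype with hTdef
  have hT2 : IsPGroup 2 T := (Solvable.pCore_isPGroup 2 ↥M).map _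
  have hMT : M ≤ normalizer (T : Set G) := by
    haveI := Solvable.pCore_characteristic (p := 2) ↥M
    exact le_trans le_normalizer (OddOrder.normalizer_le_normalizer_map_of_characteristic M _)
  obtain ⟨W, hWT, hWn, hWc, hWcen, -⟩ := exists_critical_in (p := 2) T hT2
  have hAW : A ≤ normalizer (W : Set G) := (hAX.trans hMT).trans hWn
  have hW : IsPGroup 2 W := hT2.to_le hWT
  have hW2 : ∀ x ∈ W, ∀ y ∈ W, ∀ w ∈ W, Commute ⁅x, y⁆ w := fun x hx y hy w hw => (hWc x hx y (hWT hy)).2 w hw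
  have hfaith : ∀ g ∈ A, (∀ w ∈ W, Commute g w) → g = 1 := by
    intro g hg hgw
    have hgT := commute_of_fix_critical hT2 hWT (fun h hh x hx => (hWc h hh x hx).1) hWcen
      (hMT (hAX hg)) (Nat.Coprime.coprime_dvd_left (orderOf_dvd_of_pow_eq_one (hA.2 g hg))
        ((Nat.coprime_primes hp.out Nat.prime_two).2 hp2)) hgw
    have hmem : (⟨g, hAX hg⟩ : M) ∈ Cfsg.pCore 2 ↥M :=
      (S.charTwo.2 X₀ hX₀ hX₀1) (mem_centralizer_iff.2 fun t ht => Subtype.ext
        (hgT (t : G) ⟨t, ht, rfl⟩).eq.symm)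
    obtain ⟨k, hk⟩ := IsPGroup.iff_orderOf.mp (Solvable.pCore_isPGroup 2 ↥M) ⟨_, hmem⟩
    rw [orderOf_mk, orderOf_mk] at hk
    refine orderOf_eq_one_iff.1 (Nat.dvd_one.1 ?_)
    rw [← ((Nat.coprime_primes hp.out Nat.prime_two).2 hp2).pow_right k]
    exact Nat.dvd_gcd (orderOf_dvd_of_pow_eq_one (hA.2 g hg)) hk.dvd
  have hWodd : ¬ p ∣ Nat.card W := by
    obtain ⟨n, hn⟩ := hW.exists_card_eq
    rw [hn]
    exact fun h => hp2 ((Nat.prime_dvd_prime_iff_eq hp.out Nat.prime_two).1 (hp.out.dvd_of_dvd_pow h))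
  have hfaith' : ∀ B : Subgroup G, B ≤ A → B ≠ ⊥ → ¬ W ≤ centralizer (B : Set G) := by
    intro B hBA hB h
    obtain ⟨b, hb⟩ := Subgroup.ne_bot_iff_exists_ne_one.1 hB
    exact hb (Subtype.ext (hfaith b (hBA b.2) fun w hw => mem_centralizer_iff.1 (h hw) b b.2))
  have hAcard1 : 1 < Nat.card A :=
    lt_of_lt_of_le (Nat.one_lt_pow (show m ≠ 0 by have := S.three; omega) hp1) hAm
  have hA1 : A ≠ ⊥ := fun h => by rw [h, card_bot] at hAcard1; omega
  have hne_bot : ∀ B : Subgroup G, Nat.card A ≤ p * Nat.card B → B ≠ ⊥ := by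
    intro B hB h
    rw [h, card_bot, mul_one] at hB
    have h1 : p ^ 1 < p ^ m := Nat.pow_lt_pow_right hp1 (by have := S.three; omega)
    rw [pow_one] at h1
    omega
  obtain ⟨B₁, hB₁A, hB₁card, hB₁⟩ := Signalizer.exists_hyperplane_centralizer_not_le hA (K := W)
    (D := centralizer (A : Set G)) hWodd hAW (hfaith' A le_rfl hA1)
  obtain ⟨B₂, hB₂A, hB₂card, hB₂⟩ := Signalizer.exists_hyperplane_centralizer_not_le hA (K := W)
    (D := centralizer (B₁ : Set G)) hWodd hAW (hfaith' B₁ hB₁A (hne_bot B₁ hB₁card))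
  obtain ⟨a₂, ha₂, ha₂W⟩ : ∃ b ∈ B₁, ∃ x ∈ W ⊓ centralizer (B₂ : Set G), ¬ Commute b x := by
    by_contra h
    push Not at h
    exact hB₂ fun x hx => mem_centralizer_iff.2 fun b hb => (h b hb x hx).eq
  have ha₂B : a₂ ∉ B₂ := fun h => by
    obtain ⟨x, hx, hn⟩ := ha₂W
    exact hn (mem_centralizer_iff.1 hx.2 a₂ h)
  obtain ⟨a₁, ha₁, ha₁B⟩ : ∃ x ∈ B₂, x ∉ B₁ := by
    by_contra h
    push Not at h
    obtain ⟨-, hc, -⟩ := adjoin (Signalizer.elementary_of_le hA hB₂A) (hA.2 a₂ (hB₁A ha₂)) ha₂B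
      fun x hx => Signalizer.elementary_commute hA (hB₂A hx) (hB₁A ha₂)
    have h1 : Nat.card ↥(B₂ ⊔ zpowers a₂) ≤ Nat.card B₁ := card_le_of_le (sup_le h (zpowers_le.2 ha₂))
    have h2 : B₁ = A := eq_of_le_of_card_ge hB₁A ((hB₂card.trans hc.ge).trans h1)
    exact hB₁ (fun x hx => by rw [← h2]; exact hx.2)
  have ha₁W : ∃ x ∈ W ⊓ centralizer (B₁ : Set G), ¬ Commute a₁ x := by
    by_contra h
    push Not at h
    refine hB₁ fun x hx => mem_centralizer_iff.2 fun a ha => ?_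
    rw [← sup_zpowers_eq hA hB₁A hB₁card (hB₂A ha₁) ha₁B] at ha
    exact (centralizer_adjoin (fun b hb => (mem_centralizer_iff.1 hx.2 b hb).symm) (h x hx).symm a ha).symm
  obtain ⟨U₁, z, hU₁W, hU₁B, hAU₁, hzA, hbl₁⟩ := S.exists_block hA hAm hB₁A hB₁card (hne_bot B₁ hB₁card)
    hW hAW hW2 (hB₂A ha₁) ha₁B ha₁W
  obtain ⟨U₂, z₂, hU₂W, hU₂B, hAU₂, hz₂A, hbl₂⟩ := S.exists_block hA hAm hB₂A hB₂card (hne_bot B₂ hB₂card)
    hW hAW hW2 (hB₁A ha₂) ha₂B ha₂W
  have hZW : A ≤ centralizer ((W ⊓ centralizer (W : Set G) : Subgroup G) : Set G) :=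
    S.le_centralizer_abelian hA hAm (hW.to_le inf_le_left)
      (fun x hx y hy => (mem_centralizer_iff.1 hx.2 y hy.1).symm)
      (le_trans (le_inf hAW (Signalizer.le_normalizer_centralizer hAW)) inf_normalizer_le_normalizer_inf)
  have hU12 : ∀ x ∈ U₁, ∀ y ∈ U₂, Commute x y := by
    intro x hx y hy
    rw [← hbl₂.gen] at hy
    refine commute_commutator (U := U₂) (fun g hg => ?_) (fun u hu g hg => ?_) y hy
    · exact mem_centralizer_iff.1 (hU₁B hx) g (zpowers_le.2 ha₂ hg)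
    · refine (mem_centralizer_iff.1 (hZW (zpowers_le.2 (hB₁A ha₂) hg)) _ ⟨?_, ?_⟩).symm
      · rw [commutatorElement_def]
        exact W.mul_mem (W.mul_mem (W.mul_mem (hU₁W hx) (hU₂W hu)) (W.inv_mem (hU₁W hx))) (W.inv_mem (hU₂W hu))
      · exact mem_centralizer_iff.2 fun w hw => (hW2 x (hU₁W hx) u (hU₂W hu) w hw).eq.symm
  set C := B₁ ⊓ B₂ with hCdef
  have hC : Cfsg.IsElementaryAbelian p C := Signalizer.elementary_of_le hA (inf_le_left.trans hB₁A)
  have hCcard : p ^ (m - 2) ≤ Nat.card C := by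
    have h := hAm.trans (card_inf_hyperplanes hA hB₁A hB₂A hB₁card hB₂card)
    rw [show m = 2 + (m - 2) by have := S.three; omega, pow_add] at h
    exact Nat.le_of_mul_le_mul_left h (pow_pos hp.out.pos 2)
  have hC1 : C ≠ ⊥ := fun h => by
    rw [h, card_bot] at hCcard
    have := Nat.one_lt_pow (show m - 2 ≠ 0 by have := S.three; omega) hp1
    omega
  have hzz : z₂ = z := S.eq_of_fixed_involutions hA hAm (inf_le_left.trans hB₁A : C ≤ A) hC1 hbl₂.ne
    (by rw [sq]; exact hbl₂.sq_z) hbl₁.ne (by rw [sq]; exact hbl₁.sq_z)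
    (hU12 z hbl₁.mem z₂ hbl₂.mem).symm hz₂A hzA
  subst z₂
  obtain ⟨D, hD, hDC, hCD, hDf⟩ := exists_core hp2 S.charP hC hC1
  have hAC : A ≤ centralizer (C : Set G) := fun a ha => mem_centralizer_iff.2 fun c hc =>
    Signalizer.elementary_commute hA (hB₁A hc.1) ha
  have hCDc : ∀ c ∈ C, ∀ d ∈ D, Commute c d := fun c hc d hd => mem_centralizer_iff.1 (hDC hd) c hc
  have hU₁C : U₁ ≤ centralizer (C : Set G) := hU₁B.trans (centralizer_le inf_le_left)
  have hU₂C : U₂ ≤ centralizer (C : Set G) := hU₂B.trans (centralizer_le inf_le_right)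
  have hzC : z ∈ centralizer (C : Set G) := hU₁C hbl₁.mem
  have hsq : z ^ 2 = 1 := by rw [sq]; exact hbl₁.sq_z
  have hZ₁ := S.le_centralizer_fixed_center (C := C) hA hAm hD (hAC.trans hCD) hbl₁.two (hU₁C.trans hCD) hAU₁
    hbl₁.ne hsq hzA hbl₁.central
  have hZ₂ := S.le_centralizer_fixed_center (C := C) hA hAm hD (hAC.trans hCD) hbl₂.two (hU₂C.trans hCD) hAU₂
    hbl₁.ne hsq hzA hbl₂.central
  have hcard3 : p ^ (m + 1) ≤ p ^ 3 * Nat.card C := by
    rw [show m + 1 = 3 + (m - 2) by have := S.three; omega, pow_add]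
    exact Nat.mul_le_mul_left _ hCcard
  by_cases hp3 : p = 3
  · subst hp3
    obtain ⟨x₁, hx₁, hax₁⟩ := hbl₁.nontriv
    obtain ⟨x₂, hx₂, hax₂⟩ := hbl₂.nontriv
    obtain ⟨sx₁, nxy₁⟩ := hbl₁.three hx₁ hax₁
    obtain ⟨sx₂, nxy₂⟩ := hbl₂.three hx₂ hax₂
    set y₁ := a₁ * x₁ * a₁⁻¹ with hy₁
    set y₂ := a₂ * x₂ * a₂⁻¹ with hy₂
    set w₁ := a₁ * y₁ * a₁⁻¹ with hw₁
    set w₂ := a₂ * y₂ * a₂⁻¹ with hw₂
    have hy₁U := hbl₁.conj_mem hx₁
    have hy₂U := hbl₂.conj_mem hx₂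
    have hw₁U := hbl₁.conj_mem hy₁U
    have hw₂U := hbl₂.conj_mem hy₂U
    set a := a₁ * a₂ with hadef
    have haA : a ∈ A := A.mul_mem (hB₂A ha₁) (hB₁A ha₂)
    have haU₁ : ∀ u ∈ U₁, a * u * a⁻¹ = a₁ * u * a₁⁻¹ := fun u hu => by
      calc a * u * a⁻¹ = a₁ * (a₂ * u * a₂⁻¹) * a₁⁻¹ := by rw [hadef]; group
        _ = a₁ * u * a₁⁻¹ := by
          rw [commute_iff_conj.1 (show Commute a₂ u from mem_centralizer_iff.1 (hU₁B hu) a₂ ha₂)]
    have haU₂ : ∀ u ∈ U₂, a * u * a⁻¹ = a₂ * u * a₂⁻¹ := fun u hu => by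
      have hu' : a₂ * u * a₂⁻¹ ∈ U₂ := hbl₂.conj_mem hu
      calc a * u * a⁻¹ = a₁ * (a₂ * u * a₂⁻¹) * a₁⁻¹ := by rw [hadef]; group
        _ = a₂ * u * a₂⁻¹ :=
          commute_iff_conj.1 (show Commute a₁ _ from mem_centralizer_iff.1 (hU₂B hu') a₁ ha₁)
    have hnot : ∀ {U : Subgroup G} {b : G}, Block 3 U b z → ∀ {x : G}, x ∈ U → ¬ Commute b x →
        ¬ Commute b (x * (b * x * b⁻¹)) := fun {_U} {_b} hb {x} hx hn => hb.not_commute_conj hp2 hx hn
    have hp3' : ∀ {b : G}, b ^ 3 = 1 → ∀ u, b * (b * (b * u * b⁻¹) * b⁻¹) * b⁻¹ = u := fun {b} hb u => by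
      calc b * (b * (b * u * b⁻¹) * b⁻¹) * b⁻¹ = b ^ 3 * u * (b ^ 3)⁻¹ := by simp [pow_succ, mul_assoc]
        _ = u := by rw [hb]; group
    set P₁ := x₁ * y₁ with hP₁
    set P₂ := x₂ * y₂ with hP₂
    set Q₁ := y₁ * w₁ with hQ₁
    set Q₂ := y₂ * w₂ with hQ₂
    have hP₁U : P₁ ∈ U₁ := U₁.mul_mem hx₁ hy₁U
    have hP₂U : P₂ ∈ U₂ := U₂.mul_mem hx₂ hy₂U
    have hQ₁U : Q₁ ∈ U₁ := U₁.mul_mem hy₁U hw₁U
    have hQ₂U : Q₂ ∈ U₂ := U₂.mul_mem hy₂U hw₂U
    have hQ₁' : Q₁ = a₁ * P₁ * a₁⁻¹ := by rw [hQ₁, hP₁, hw₁, conj_mul]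
    have hQ₂' : Q₂ = a₂ * P₂ * a₂⁻¹ := by rw [hQ₂, hP₂, hw₂, conj_mul]
    have hP₁a := hnot hbl₁ hx₁ hax₁
    have hP₂a := hnot hbl₂ hx₂ hax₂
    obtain ⟨sP₁, nPQ₁⟩ := hbl₁.three hP₁U hP₁a
    obtain ⟨sP₂, nPQ₂⟩ := hbl₂.three hP₂U hP₂a
    rw [← hQ₁'] at nPQ₁
    rw [← hQ₂'] at nPQ₂
    set e := P₁ * P₂ with he
    set f := a * e * a⁻¹ with hf
    have hfQ : f = Q₁ * Q₂ := by
      rw [hf, he, ← conj_mul, haU₁ _ hP₁U, haU₂ _ hP₂U, hQ₁', hQ₂']
    have hef : Commute e f := by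
      refine commute_iff_conj.2 ?_
      have c1 := hU12 P₁ hP₁U Q₂ hQ₂U
      have c2 : Commute P₂ Q₁ := (hU12 Q₁ hQ₁U P₂ hP₂U).symm
      have e1 := hbl₁.conj_eq hQ₁U hP₁U fun c => nPQ₁ c.symm
      have e2 := hbl₂.conj_eq hQ₂U hP₂U fun c => nPQ₂ c.symm
      calc e * f * e⁻¹ = P₁ * (P₂ * Q₁ * P₂⁻¹) * (P₂ * Q₂ * P₂⁻¹) * P₁⁻¹ := by rw [hfQ, he]; group
        _ = P₁ * Q₁ * z * Q₂ * P₁⁻¹ := by rw [commute_iff_conj.1 c2, e2]; group
        _ = (P₁ * Q₁ * P₁⁻¹) * (P₁ * z * P₁⁻¹) * (P₁ * Q₂ * P₁⁻¹) := by group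
        _ = f := by
          rw [e1, commute_iff_conj.1 (hbl₁.central P₁ hP₁U).symm, commute_iff_conj.1 c1, hfQ,
            (hbl₁.central Q₁ hQ₁U).eq, mul_assoc Q₁, hbl₁.sq_z, mul_one]
    have he2 : e * e = 1 := by
      rw [he, (hU12 P₁ hP₁U P₂ hP₂U).symm.mul_mul_mul_comm, sP₁, sP₂, hbl₁.sq_z]
    have hf2 : f * f = 1 := by
      rw [hf, conj_mul, he2]; group
    have haff : a * f * a⁻¹ = e * f := by
      have n1 : ¬ Commute w₁ x₁ := fun c => nxy₁ (by
        have h1 := commute_map_conj a₁ c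
        rwa [hw₁, hy₁, hp3' hbl₁.pow] at h1)
      have n2 : ¬ Commute w₂ x₂ := fun c => nxy₂ (by
        have h1 := commute_map_conj a₂ c
        rwa [hw₂, hy₂, hp3' hbl₂.pow] at h1)
      have s1 : x₁ * w₁ = z * (w₁ * x₁) :=
        (hbl₁.swap hx₁ hw₁U).resolve_left fun h => n1 h.symm
      have s2 : x₂ * w₂ = z * (w₂ * x₂) :=
        (hbl₂.swap hx₂ hw₂U).resolve_left fun h => n2 h.symm
      have q1 : y₁ * y₁ = z := by rw [hy₁, conj_mul, sx₁, commute_iff_conj.1 hbl₁.fix_z]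
      have q2 : y₂ * y₂ = z := by rw [hy₂, conj_mul, sx₂, commute_iff_conj.1 hbl₂.fix_z]
      have r1 : P₁ * Q₁ = w₁ * x₁ := by
        calc P₁ * Q₁ = x₁ * (y₁ * y₁) * w₁ := by rw [hP₁, hQ₁]; group
          _ = z * (x₁ * w₁) := by rw [q1, ← (hbl₁.central x₁ hx₁).eq]; group
          _ = w₁ * x₁ := by rw [s1, ← mul_assoc, hbl₁.sq_z, one_mul]
      have r2 : P₂ * Q₂ = w₂ * x₂ := by
        calc P₂ * Q₂ = x₂ * (y₂ * y₂) * w₂ := by rw [hP₂, hQ₂]; group
          _ = z * (x₂ * w₂) := by rw [q2, ← (hbl₂.central x₂ hx₂).eq]; group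
          _ = w₂ * x₂ := by rw [s2, ← mul_assoc, hbl₁.sq_z, one_mul]
      have aw1 : a₁ * w₁ * a₁⁻¹ = x₁ := by rw [hw₁, hy₁, hp3' hbl₁.pow]
      have aw2 : a₂ * w₂ * a₂⁻¹ = x₂ := by rw [hw₂, hy₂, hp3' hbl₂.pow]
      rw [hfQ, ← conj_mul, haU₁ _ hQ₁U, haU₂ _ hQ₂U, he, (hU12 Q₁ hQ₁U P₂ hP₂U).symm.mul_mul_mul_comm, r1, r2,
        show a₁ * Q₁ * a₁⁻¹ = w₁ * x₁ by
          calc a₁ * Q₁ * a₁⁻¹ = (a₁ * y₁ * a₁⁻¹) * (a₁ * w₁ * a₁⁻¹) := by rw [hQ₁]; group
            _ = w₁ * x₁ := by rw [aw1],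
        show a₂ * Q₂ * a₂⁻¹ = w₂ * x₂ by
          calc a₂ * Q₂ * a₂⁻¹ = (a₂ * y₂ * a₂⁻¹) * (a₂ * w₂ * a₂⁻¹) := by rw [hQ₂]; group
            _ = w₂ * x₂ := by rw [aw2]]
    have he1 : e ≠ 1 := by
      intro h
      refine hP₁a ((hbl₁.fixed P₁ hP₁U).2 fun u hu => ?_)
      rw [eq_inv_of_mul_eq_one_left h]
      exact (hU12 u hu P₂ hP₂U).symm.inv_left
    set E := Subgroup.closure ({e, f} : Set G) with hEdef
    have hE : Cfsg.IsElementaryAbelian 2 E := elementary_closure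
      (fun u hu v hv => by
        simp only [Set.mem_insert_iff, Set.mem_singleton_iff] at hu hv
        rcases hu with rfl | rfl <;> rcases hv with rfl | rfl <;>
          first | exact Commute.refl _ | exact hef | exact hef.symm)
      (fun u hu => by
        simp only [Set.mem_insert_iff, Set.mem_singleton_iff] at hu
        rcases hu with rfl | rfl <;> assumption)
    have heE : e ∈ E := Subgroup.subset_closure (by simp)
    have hfE : f ∈ E := Subgroup.subset_closure (by simp)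
    have haE : a ∈ normalizer (E : Set G) := mem_normalizer_fintype fun u hu => by
      have : E ≤ E.comap (MulAut.conj a).toMonoidHom := by
        rw [hEdef, Subgroup.closure_le]
        intro v hv
        simp only [Set.mem_insert_iff, Set.mem_singleton_iff] at hv
        show a * v * a⁻¹ ∈ E
        rcases hv with rfl | rfl
        exacts [hfE, haff ▸ E.mul_mem heE hfE]
      exact this hu
    have hzc : ∀ {u v : G}, u ∈ U₁ → v ∈ U₂ → Commute z (u * v) := fun hu hv =>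
      (hbl₁.central _ hu).mul_right (hbl₂.central _ hv)
    have hze : Commute z e := hzc hP₁U hP₂U
    have hzf : Commute z f := hfQ ▸ hzc hQ₁U hQ₂U
    set X := Subgroup.closure ({z, e, f} : Set G) with hXdef
    have hX : Cfsg.IsElementaryAbelian 2 X := elementary_closure
      (fun u hu v hv => by
        simp only [Set.mem_insert_iff, Set.mem_singleton_iff] at hu hv
        rcases hu with rfl | rfl | rfl <;> rcases hv with rfl | rfl | rfl <;>
          first | exact Commute.refl _ | exact hef | exact hef.symm | exact hze | exact hze.symm | exact hzf | exact hzf.symm)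
      (fun u hu => by
        simp only [Set.mem_insert_iff, Set.mem_singleton_iff] at hu
        rcases hu with rfl | rfl | rfl
        exacts [hbl₁.sq_z, he2, hf2])
    have hzX : z ∈ X := Subgroup.subset_closure (by simp)
    have heX : e ∈ X := Subgroup.subset_closure (by simp)
    have hfX : f ∈ X := Subgroup.subset_closure (by simp)
    have hXC : X ≤ centralizer (C : Set G) := by
      rw [hXdef, Subgroup.closure_le]
      intro u hu
      simp only [Set.mem_insert_iff, Set.mem_singleton_iff] at hu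
      rcases hu with rfl | rfl | rfl
      · exact hzC
      · exact mul_mem (hU₁C hP₁U) (hU₂C hP₂U)
      · exact hfQ ▸ mul_mem (hU₁C hQ₁U) (hU₂C hQ₂U)
    have hgX : ∀ g ∈ U₁, g ∈ normalizer (X : Set G) := fun g hg => mem_normalizer_fintype fun u hu => by
      have : X ≤ X.comap (MulAut.conj g).toMonoidHom := by
        rw [hXdef, Subgroup.closure_le]
        intro v hv
        simp only [Set.mem_insert_iff, Set.mem_singleton_iff] at hv
        show g * v * g⁻¹ ∈ X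
        have key : ∀ {u w : G}, u ∈ U₁ → w ∈ U₂ → u * w ∈ X → g * (u * w) * g⁻¹ ∈ X := by
          intro u w hu hw huw
          have e0 : g * (u * w) * g⁻¹ = (g * u * g⁻¹) * w := by
            rw [← conj_mul, commute_iff_conj.1 (hU12 g hg w hw)]
          rw [e0]
          by_cases c : Commute u g
          · rwa [commute_iff_conj.1 c.symm]
          · rw [hbl₁.conj_eq hu hg c, mul_assoc]; exact X.mul_mem hzX huw
        rcases hv with rfl | rfl | rfl
        · rwa [commute_iff_conj.1 (hbl₁.central g hg).symm]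
        · exact key hP₁U hP₂U heX
        · rw [hfQ]; exact key hQ₁U hQ₂U (hfQ ▸ hfX)
      exact this hu
    obtain ⟨v₀, hv₀, hv₀z⟩ := exists_eig hp2 hX (hXC.trans hCD) hD hzX
      (fun h => hbl₁.ne (hDf z hzC (coprime_two_of_sq hp2 hbl₁.sq_z) h))
    have hzv₀ := hv₀.inverts hzX hv₀z
    have hflip : ∀ g ∈ U₁, ∀ {u w : G}, u ∈ U₁ → w ∈ U₂ → u * w ∈ X → ∀ v, Eig X D v → Inverts z v →
        (¬ Commute u g → (Commute (u * w) (g * v * g⁻¹) ↔ ¬ Commute (u * w) v)) ∧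
        (Commute u g → (Commute (u * w) (g * v * g⁻¹) ↔ Commute (u * w) v)) := by
      intro g hg u w hu hw huw v hv hzv
      have hgw : Commute g w := hU12 g hg w hw
      refine ⟨fun c => commute_flip hp2 hD hv huw (hzc hu hw) hzv ?_,
        fun c => commute_same (c.symm.mul_right hgw)⟩
      calc g⁻¹ * (u * w) * g = (g⁻¹ * u * g) * (g⁻¹ * (w * g)) := by group
        _ = z * (u * w) := by
          rw [hbl₁.conj_inv_eq hu hg c, ← hgw.eq, inv_mul_cancel_left, mul_assoc]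
    have nx1 : ¬ Commute P₁ x₁ := fun c => nxy₁ (by
      simpa [hP₁] using ((Commute.refl x₁).inv_right.mul_right c.symm))
    have ny1 : ¬ Commute P₁ y₁ := fun c => nxy₁ (by
      simpa [hP₁] using (c.symm.mul_right (Commute.refl y₁).inv_right).symm)
    have nxw : ¬ Commute x₁ w₁ := fun c => nxy₁ (by
      have h1 := (commute_map_conj a₁ c).symm
      rwa [hw₁, hy₁, hp3' hbl₁.pow] at h1)
    have nyw : ¬ Commute y₁ w₁ := fun c => nxw (by
      have h1 := (commute_map_conj a₁ c).symm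
      rwa [hw₁, hy₁, hp3' hbl₁.pow] at h1)
    have qx : Commute Q₁ x₁ := (hbl₁.commute_mul hx₁ hy₁U hw₁U nxy₁ nxw).symm
    have qy : ¬ Commute Q₁ y₁ := fun c => hbl₁.not_commute_mul (Commute.refl y₁) nyw c.symm
    obtain ⟨v, hv, hzv, hev, hfv⟩ : ∃ v, Eig X D v ∧ Inverts z v ∧ Commute e v ∧ Commute f v := by
      have hget : ∀ g ∈ U₁, Eig X D (g * v₀ * g⁻¹) ∧ Inverts z (g * v₀ * g⁻¹) := fun g hg =>
        ⟨hv₀.conj hp2 (hgX g hg) (hCD (hU₁C hg)), inverts_conj (hbl₁.central g hg) hzv₀⟩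
      have he' := fun g hg => hflip g hg hP₁U hP₂U heX v₀ hv₀ hzv₀
      have hf' := fun g hg => hflip g hg hQ₁U hQ₂U (hfQ ▸ hfX) v₀ hv₀ hzv₀
      rw [← he] at he'
      rw [← hfQ] at hf'
      by_cases ce : Commute e v₀ <;> by_cases cf : Commute f v₀
      · exact ⟨v₀, hv₀, hzv₀, ce, cf⟩
      · -- flip `f` only
        have hP : Commute P₁ P₁ := Commute.refl P₁
        refine ⟨_, (hget P₁ hP₁U).1, (hget P₁ hP₁U).2, ((he' P₁ hP₁U).2 hP).2 ce,
          ((hf' P₁ hP₁U).1 fun c => nPQ₁ c.symm).2 cf⟩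
      · exact ⟨_, (hget x₁ hx₁).1, (hget x₁ hx₁).2, ((he' x₁ hx₁).1 nx1).2 ce, ((hf' x₁ hx₁).2 qx).2 cf⟩
      · exact ⟨_, (hget y₁ hy₁U).1, (hget y₁ hy₁U).2, ((he' y₁ hy₁U).1 ny1).2 ce, ((hf' y₁ hy₁U).1 qy).2 cf⟩
    set D₁ := D ⊓ centralizer (E : Set G) with hD₁
    have hvE : v ∈ centralizer (E : Set G) := by
      rw [hEdef, centralizer_closure, mem_centralizer_iff]
      intro u hu
      simp only [Set.mem_insert_iff, Set.mem_singleton_iff] at hu
      rcases hu with rfl | rfl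
      exacts [hev.eq, hfv.eq]
    have hzE : z ∈ centralizer (E : Set G) := by
      rw [hEdef, centralizer_closure, mem_centralizer_iff]
      intro u hu
      simp only [Set.mem_insert_iff, Set.mem_singleton_iff] at hu
      rcases hu with rfl | rfl
      exacts [hze.eq.symm, hzf.eq.symm]
    obtain ⟨u, huD, hu1, hzu, hau⟩ := exists_fixed_inverted hp2 (A := zpowers a) (y := z) (D := D₁)
      ((Signalizer.elementary_isPGroup hA).to_le (zpowers_le.2 haA)) hbl₁.sq_z (hD.of_le inf_le_left)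
      (inf_normalizer_le_normalizer_inf ⟨hCD hzC, le_normalizer hzE⟩)
      (zpowers_le.2 (inf_normalizer_le_normalizer_inf
        ⟨hCD (hAC haA), Signalizer.le_normalizer_centralizer le_rfl haE⟩))
      (fun b hb => by obtain ⟨i, rfl⟩ := hb; exact (hzA a haA).symm.zpow_left i)
      (fun h => Inverts.not_commute hp2 (hD.expo v hv.mem) hv.ne hzv (h v ⟨hv.mem, hvE⟩))
    have hCE : ∀ c ∈ C, ∀ x ∈ E, Commute c x := fun c hc x hx => by
      have hEX : E ≤ X := Subgroup.closure_mono (by simp)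
      exact mem_centralizer_iff.1 (hXC (hEX hx)) c hc
    have haC : a ∉ C := fun h => he1 (by
      have h1 := commute_iff_conj.1 (hCE a h e heE)
      rw [← hf] at h1
      have h2 := commute_iff_conj.1 (hCE a h f hfE)
      rw [haff, h1] at h2
      exact mul_eq_right.1 h2)
    obtain ⟨hL₁, hc₁, -⟩ := adjoin hC (hA.2 a haA) haC
      (fun c hc => Signalizer.elementary_commute hA (hB₁A hc.1) haA)
    have hzL : ∀ s ∈ C ⊔ zpowers a, Commute z s :=
      centralizer_adjoin (fun c hc => hzA c (hB₁A hc.1)) (hzA a haA)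
    have huL : u ∉ C ⊔ zpowers a := fun h =>
      Inverts.not_commute hp2 (hD.expo u huD.1) hu1 hzu (hzL u h)
    obtain ⟨hL, hcL, -⟩ := adjoin hL₁ (hD.expo u huD.1) huL
      (fun s hs => (centralizer_adjoin (fun c hc => (hCDc c hc u huD.1).symm)
        (hau a (mem_zpowers a)).symm s hs).symm)
    have hLcard : 3 ^ m ≤ Nat.card ↥(C ⊔ zpowers a ⊔ zpowers u) := by
      rw [hcL, hc₁, show m = 2 + (m - 2) by have := S.three; omega, pow_add, ← mul_assoc]
      exact Nat.mul_le_mul_left _ hCcard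
    have hLE : C ⊔ zpowers a ⊔ zpowers u ≤ normalizer (E : Set G) := sup_le (sup_le
      (fun c hc => centralizer_le_normalizer _ (mem_centralizer_iff.2 fun x hx => (hCE c hc x hx).eq.symm))
      (zpowers_le.2 haE)) (zpowers_le.2 (centralizer_le_normalizer _ huD.2))
    have hcon := S.le_centralizer_elementary hL hLcard hE hLE
    have hae := mem_centralizer_iff.1 (hcon (mem_sup_left (mem_sup_right (mem_zpowers a)))) 
    have h1 : f = e := by rw [hf]; exact commute_iff_conj.1 (hae e heE).symm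
    have h2 : a * f * a⁻¹ = f := commute_iff_conj.1 (hae f hfE).symm
    rw [haff, h1] at h2
    exact he1 (mul_eq_right.1 h2)
  · obtain ⟨e₁, he₁, y₁, hy₁, hae₁, hay₁, haey₁, hc₁, hs₁⟩ := hbl₁.big hp2 hp3
    obtain ⟨e₂, he₂, y₂, hy₂, hae₂, hay₂, haey₂, hc₂, hs₂⟩ := hbl₂.big hp2 hp3
    obtain ⟨f, hf2, hzf, hfe₁, hfe₂, hfU, hfcent, g₃, hg₃, hg₃e₁, hg₃e₂, hg₃f⟩ : ∃ f, f * f = 1 ∧
        Commute z f ∧ Commute f e₁ ∧ Commute f e₂ ∧ f ∈ U₁ ⊔ U₂ ∧
        (∀ g, g ∈ U₁ ∨ g ∈ U₂ → g * f * g⁻¹ = f ∨ g * f * g⁻¹ = z * f) ∧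
        ∃ g, (g ∈ U₁ ∨ g ∈ U₂) ∧ Commute g e₁ ∧ Commute g e₂ ∧ g⁻¹ * f * g = z * f := by
      obtain ⟨k₁, hk₁, hk₁e, hk₁y⟩ := hbl₁.separate he₁ hy₁ hay₁ haey₁
      obtain ⟨k₂, hk₂, hk₂e, hk₂y⟩ := hbl₂.separate he₂ hy₂ hay₂ haey₂
      have hin₁ : ∀ u ∈ U₁, ∀ g, g ∈ U₁ ∨ g ∈ U₂ → g * u * g⁻¹ = u ∨ g * u * g⁻¹ = z * u := by
        intro u hu g hg
        rcases hg with hg | hg
        · by_cases c : Commute u g
          exacts [Or.inl (commute_iff_conj.1 c.symm), Or.inr (hbl₁.conj_eq hu hg c)]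
        · exact Or.inl (commute_iff_conj.1 (hU12 u hu g hg).symm)
      have hin₂ : ∀ u ∈ U₂, ∀ g, g ∈ U₁ ∨ g ∈ U₂ → g * u * g⁻¹ = u ∨ g * u * g⁻¹ = z * u := by
        intro u hu g hg
        rcases hg with hg | hg
        · exact Or.inl (commute_iff_conj.1 (hU12 g hg u hu))
        · by_cases c : Commute u g
          exacts [Or.inl (commute_iff_conj.1 c.symm), Or.inr (hbl₂.conj_eq hu hg c)]
      rcases hbl₁.sq y₁ hy₁ with s1 | s1
      · exact ⟨y₁, s1, hbl₁.central y₁ hy₁, hc₁.symm, hU12 y₁ hy₁ e₂ he₂, mem_sup_left hy₁, hin₁ y₁ hy₁, k₁,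
          Or.inl hk₁, hk₁e, hU12 k₁ hk₁ e₂ he₂, hbl₁.conj_inv_eq hy₁ hk₁ fun c => hk₁y c.symm⟩
      rcases hbl₂.sq y₂ hy₂ with s2 | s2
      · exact ⟨y₂, s2, hbl₂.central y₂ hy₂, (hU12 e₁ he₁ y₂ hy₂).symm, hc₂.symm, mem_sup_right hy₂, hin₂ y₂ hy₂, k₂,
          Or.inr hk₂, (hU12 e₁ he₁ k₂ hk₂).symm, hk₂e, hbl₂.conj_inv_eq hy₂ hk₂ fun c => hk₂y c.symm⟩
      have c12 := hU12 y₁ hy₁ y₂ hy₂
      refine ⟨y₁ * y₂, ?_, (hbl₁.central y₁ hy₁).mul_right (hbl₂.central y₂ hy₂),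
        hc₁.symm.mul_left (hU12 e₁ he₁ y₂ hy₂).symm, (hU12 y₁ hy₁ e₂ he₂).mul_left hc₂.symm,
        mul_mem (mem_sup_left hy₁) (mem_sup_right hy₂), fun g hg => ?_, k₁, Or.inl hk₁, hk₁e, hU12 k₁ hk₁ e₂ he₂, ?_⟩
      · rw [c12.symm.mul_mul_mul_comm, s1, s2, hbl₁.sq_z]
      · rw [← conj_mul]
        have hzy : y₁ * (z * y₂) = z * (y₁ * y₂) := by
          rw [← mul_assoc, ← (hbl₁.central y₁ hy₁).eq, mul_assoc]
        rcases hin₁ y₁ hy₁ g hg with e | e <;> rcases hin₂ y₂ hy₂ g hg with e' | e' <;> rw [e, e']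
        · exact Or.inl rfl
        · exact Or.inr hzy
        · exact Or.inr (mul_assoc _ _ _)
        · left; rw [mul_assoc, hzy, ← mul_assoc, hbl₁.sq_z, one_mul]
      · calc k₁⁻¹ * (y₁ * y₂) * k₁ = (k₁⁻¹ * y₁ * k₁) * (k₁⁻¹ * (y₂ * k₁)) := by group
          _ = z * (y₁ * y₂) := by
            rw [hbl₁.conj_inv_eq hy₁ hk₁ fun c => hk₁y c.symm, ← (hU12 k₁ hk₁ y₂ hy₂).eq, inv_mul_cancel_left,
              mul_assoc]
    have hze₁ := hbl₁.central e₁ he₁
    have hze₂ := hbl₂.central e₂ he₂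
    have he12 := hU12 e₁ he₁ e₂ he₂
    set X := Subgroup.closure ({z, e₁, e₂, f} : Set G) with hXdef
    have hX : Cfsg.IsElementaryAbelian 2 X := elementary_closure
      (fun u hu v hv => by
        simp only [Set.mem_insert_iff, Set.mem_singleton_iff] at hu hv
        rcases hu with rfl | rfl | rfl | rfl <;> rcases hv with rfl | rfl | rfl | rfl <;>
          first | exact Commute.refl _ | assumption | exact Commute.symm (by assumption))
      (fun u hu => by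
        simp only [Set.mem_insert_iff, Set.mem_singleton_iff] at hu
        rcases hu with rfl | rfl | rfl | rfl
        exacts [hbl₁.sq_z, hs₁, hs₂, hf2])
    have hzX : z ∈ X := Subgroup.subset_closure (by simp)
    have he₁X : e₁ ∈ X := Subgroup.subset_closure (by simp)
    have he₂X : e₂ ∈ X := Subgroup.subset_closure (by simp)
    have hfX : f ∈ X := Subgroup.subset_closure (by simp)
    have hXC : X ≤ centralizer (C : Set G) := by
      rw [hXdef, Subgroup.closure_le]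
      intro u hu
      simp only [Set.mem_insert_iff, Set.mem_singleton_iff] at hu
      rcases hu with rfl | rfl | rfl | rfl
      exacts [hzC, hU₁C he₁, hU₂C he₂, sup_le hU₁C hU₂C hfU]
    have hUc : ∀ g, g ∈ U₁ ∨ g ∈ U₂ → Commute z g ∧ g ∈ centralizer (C : Set G) := fun g hg =>
      hg.elim (fun h => ⟨hbl₁.central g h, hU₁C h⟩) fun h => ⟨hbl₂.central g h, hU₂C h⟩
    have hgX : ∀ g, g ∈ U₁ ∨ g ∈ U₂ → g ∈ normalizer (X : Set G) := fun g hg => mem_normalizer_fintype fun u hu => by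
      have : X ≤ X.comap (MulAut.conj g).toMonoidHom := by
        rw [hXdef, Subgroup.closure_le]
        intro v hv
        simp only [Set.mem_insert_iff, Set.mem_singleton_iff] at hv
        show g * v * g⁻¹ ∈ X
        rcases hv with rfl | rfl | rfl | rfl
        · rwa [commute_iff_conj.1 (hUc g hg).1.symm]
        · rcases hg with hg | hg
          · by_cases c : Commute v g
            · rwa [commute_iff_conj.1 c.symm]
            · rw [hbl₁.conj_eq he₁ hg c]; exact X.mul_mem hzX he₁X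
          · rwa [commute_iff_conj.1 (hU12 v he₁ g hg).symm]
        · rcases hg with hg | hg
          · rwa [commute_iff_conj.1 (hU12 g hg v he₂)]
          · by_cases c : Commute v g
            · rwa [commute_iff_conj.1 c.symm]
            · rw [hbl₂.conj_eq he₂ hg c]; exact X.mul_mem hzX he₂X
        · rcases hfcent g hg with e | e <;> rw [e]
          exacts [hfX, X.mul_mem hzX hfX]
      exact this hu
    have hconj : ∀ g, g ∈ U₁ ∨ g ∈ U₂ → ∀ v, Eig X D v → Inverts z v →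
        Eig X D (g * v * g⁻¹) ∧ Inverts z (g * v * g⁻¹) := fun g hg v hv hzv =>
      ⟨hv.conj hp2 (hgX g hg) (hCD (hUc g hg).2), inverts_conj (hUc g hg).1 hzv⟩
    obtain ⟨v₀, hv₀, hv₀z⟩ := exists_eig hp2 hX (hXC.trans hCD) hD hzX
      (fun h => hbl₁.ne (hDf z hzC (coprime_two_of_sq hp2 hbl₁.sq_z) h))
    obtain ⟨v, hv, hzv, hev⟩ : ∃ v, Eig X D v ∧ Inverts z v ∧ Commute e₁ v := by
      have hzv₀ := hv₀.inverts hzX hv₀z
      by_cases c : Commute e₁ v₀
      · exact ⟨v₀, hv₀, hzv₀, c⟩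
      obtain ⟨g, hg, hgn⟩ := hbl₁.not_central he₁ hae₁
      obtain ⟨h1, h2⟩ := hconj g (Or.inl hg) v₀ hv₀ hzv₀
      exact ⟨_, h1, h2, (commute_flip hp2 hD hv₀ he₁X hze₁ hzv₀ (hbl₁.conj_inv_eq he₁ hg hgn)).2 c⟩
    obtain ⟨g₂, hg₂, hg₂n⟩ := hbl₂.not_central he₂ hae₂
    obtain ⟨hv2, hzv2⟩ := hconj g₂ (Or.inr hg₂) v hv hzv
    obtain ⟨hv3, hzv3⟩ := hconj g₃ hg₃ v hv hzv
    have f2 := commute_flip hp2 hD hv he₂X hze₂ hzv (hbl₂.conj_inv_eq he₂ hg₂ hg₂n)
    have f3 := commute_flip hp2 hD hv hfX hzf hzv hg₃f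
    have s2 : Commute e₁ (g₂ * v * g₂⁻¹) := (commute_same (hU12 e₁ he₁ g₂ hg₂).symm).2 hev
    have s3 : Commute e₁ (g₃ * v * g₃⁻¹) := (commute_same hg₃e₁).2 hev
    have hcomm : ∀ a b, Eig X D a → Eig X D b → Inverts z a → Inverts z b →
        (∃ x ∈ X, ¬ (Commute x a ↔ Commute x b)) → Commute a b := by
      intro a b ha hb hza hzb ⟨x, hx, hd⟩
      refine commutatorElement_eq_one_iff_commute.1 (by_contra fun hne => ?_)
      obtain ⟨hu, huc, hiff⟩ := Eig.commutator hp2 hD ha hb hne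
      have hzu : Commute z ⁅a, b⁆ := (hiff z hzX).2 (iff_of_false
        (Inverts.not_commute hp2 (hD.expo a ha.mem) ha.ne hza) (Inverts.not_commute hp2 (hD.expo b hb.mem) hb.ne hzb))
      have h1 := hZ₁ _ hu.mem huc hzu
      have h2 := hZ₂ _ hu.mem huc hzu
      have hfu : Commute f ⁅a, b⁆ := by
        have hle : U₁ ⊔ U₂ ≤ centralizer ({⁅a, b⁆} : Set G) :=
          sup_le (fun r hr => mem_centralizer_singleton_iff.2 (h1 r hr).eq)
            (fun r hr => mem_centralizer_singleton_iff.2 (h2 r hr).eq)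
        exact mem_centralizer_singleton_iff.1 (hle hfU)
      have hXu : X ≤ centralizer ({⁅a, b⁆} : Set G) := by
        rw [hXdef, Subgroup.closure_le]
        intro u hu'
        simp only [Set.mem_insert_iff, Set.mem_singleton_iff] at hu'
        refine mem_centralizer_singleton_iff.2 (Commute.eq ?_)
        rcases hu' with rfl | rfl | rfl | rfl
        exacts [hzu, h1 _ he₁, h2 _ he₂, hfu]
      exact hd ((hiff x hx).1 (mem_centralizer_singleton_iff.1 (hXu hx)))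
    have d12 : ∃ x ∈ X, ¬ (Commute x v ↔ Commute x (g₂ * v * g₂⁻¹)) :=
      ⟨e₂, he₂X, fun h => iff_not_self (h.trans f2)⟩
    have d13 : ∃ x ∈ X, ¬ (Commute x v ↔ Commute x (g₃ * v * g₃⁻¹)) :=
      ⟨f, hfX, fun h => iff_not_self (h.trans f3)⟩
    have d23 : ∃ x ∈ X, ¬ (Commute x (g₂ * v * g₂⁻¹) ↔ Commute x (g₃ * v * g₃⁻¹)) :=
      ⟨e₂, he₂X, fun h => iff_not_self (((commute_same hg₃e₂).symm.trans h.symm).trans f2)⟩
    obtain ⟨L, hL, hLcard, hLc⟩ := card_three hp2 hC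
      (fun x hx c hc => (mem_centralizer_iff.1 (hXC hx) c hc).symm) hD hv hv2 hv3 hCDc
      (hcomm _ _ hv hv2 hzv hzv2 d12) (hcomm _ _ hv hv3 hzv hzv3 d13) (hcomm _ _ hv2 hv3 hzv2 hzv3 d23)
      ⟨z, hzX, Inverts.not_commute hp2 (hD.expo _ hv.mem) hv.ne hzv⟩
      ⟨z, hzX, Inverts.not_commute hp2 (hD.expo _ hv2.mem) hv2.ne hzv2⟩
      ⟨z, hzX, Inverts.not_commute hp2 (hD.expo _ hv3.mem) hv3.ne hzv3⟩ d12 d13 d23
    refine S.contra hX he₁X (fun h => hae₁ (h ▸ Commute.one_right _)) hL (hLcard ▸ hcard3)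
      (hLc e₁ (fun c hc => (mem_centralizer_iff.1 (hXC he₁X) c hc).symm) hev s2 s3)

end CfsgLib.KlingerMason
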